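import Mathlib
import Cfsg.Agent.Char.Integral

/-!
# Congruences modulo a natural number in the algebraic integers, and orbit sums
-/

namespace Cfsg.Agent.Char.Glauberman

/-- `x ≡ y` modulo `p` times the algebraic integers. -/
def Cong (p : ℕ) (x y : ℂ) : Prop := ∃ z : ℂ, IsIntegral ℤ z ∧ x - y = p * z

variable {p : ℕ} {x y x' y' z : ℂ}

theorem Cong.rfl' : Cong p x x := ⟨0, isIntegral_zero, by simp⟩

theorem Cong.symm (h : Cong p x y) : Cong p y x := by
  obtain ⟨z, hz, e⟩ := h
  exact ⟨-z, hz.neg, by linear_combination -e⟩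

theorem Cong.trans (h : Cong p x y) (h' : Cong p y z) : Cong p x z := by
  obtain ⟨u, hu, e⟩ := h
  obtain ⟨v, hv, e'⟩ := h'
  exact ⟨u + v, hu.add hv, by linear_combination e + e'⟩

theorem Cong.add (h : Cong p x y) (h' : Cong p x' y') : Cong p (x + x') (y + y') := by
  obtain ⟨u, hu, e⟩ := h
  obtain ⟨v, hv, e'⟩ := h'
  exact ⟨u + v, hu.add hv, by linear_combination e + e'⟩

theorem Cong.mul_left (hz : IsIntegral ℤ z) (h : Cong p x y) : Cong p (z * x) (z * y) := by
  obtain ⟨u, hu, e⟩ := h
  exact ⟨z * u, hz.mul hu, by linear_combination z * e⟩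

theorem Cong.mul_right (hz : IsIntegral ℤ z) (h : Cong p x y) : Cong p (x * z) (y * z) := by
  rw [mul_comm x, mul_comm y]
  exact h.mul_left hz

theorem Cong.sum {ι : Type*} (s : Finset ι) (f g : ι → ℂ) (h : ∀ i ∈ s, Cong p (f i) (g i)) :
    Cong p (∑ i ∈ s, f i) (∑ i ∈ s, g i) := by
  classical
  induction s using Finset.induction_on with
  | empty => simp only [Finset.sum_empty]; exact Cong.rfl'
  | insert a s ha ih =>
    rw [Finset.sum_insert ha, Finset.sum_insert ha]
    exact (h a (Finset.mem_insert_self a s)).add (ih fun i hi => h i (Finset.mem_insert_of_mem hi))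

theorem Cong.zmod_eq (hp : p ≠ 0) {a b : ℕ} (h : Cong p (a : ℂ) (b : ℂ)) :
    (a : ZMod p) = (b : ZMod p) := by
  obtain ⟨z, hz, e⟩ := h
  obtain ⟨k, hk⟩ := exists_int_of_isIntegral_rat (q := (((a : ℤ) - b : ℤ) : ℚ) / p) (by
    push_cast
    rw [e, mul_div_cancel_left₀ _ (Nat.cast_ne_zero.2 hp)]
    exact hz)
  rw [eq_div_iff (Nat.cast_ne_zero.2 hp)] at hk
  have hk' : k * (p : ℤ) = (a : ℤ) - b := by exact_mod_cast hk
  have := congrArg (fun t : ℤ => (t : ZMod p)) hk'
  simp only [Int.cast_mul, Int.cast_natCast, ZMod.natCast_self, mul_zero, Int.cast_sub] at this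
  exact sub_eq_zero.1 this.symm

/-- The sum of an invariant integral function over a set acted on by a `p`-group is congruent to
the sum over the fixed points. -/
theorem sum_cong_fixed [Fact p.Prime] {T : Type*} [Group T] (hT : IsPGroup p T) {X : Type*}
    [Fintype X] [MulAction T X] [DecidablePred fun x : X => ∀ t : T, t • x = x] (f : X → ℂ)
    (hf : ∀ (t : T) x, f (t • x) = f x) (hint : ∀ x, IsIntegral ℤ (f x)) :
    Cong p (∑ x, f x) (∑ x ∈ Finset.univ.filter (fun x => ∀ t : T, t • x = x), f x) := by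
  classical
  rw [← Finset.sum_fiberwise_of_maps_to (g := f) (t := Finset.univ.image f)
      fun x _ => Finset.mem_image_of_mem f (Finset.mem_univ x),
    ← Finset.sum_fiberwise_of_maps_to (g := f)
      (s := Finset.univ.filter (fun x => ∀ t : T, t • x = x)) (t := Finset.univ.image f)
      fun x _ => Finset.mem_image_of_mem f (Finset.mem_univ x)]
  refine Cong.sum _ _ _ fun v hv => ?_
  rw [Finset.sum_congr rfl (fun x hx => (Finset.mem_filter.1 hx).2), Finset.sum_const,
    Finset.sum_congr rfl (fun x hx => (Finset.mem_filter.1 hx).2), Finset.sum_const,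
    nsmul_eq_mul, nsmul_eq_mul]
  refine Cong.mul_right (by
    obtain ⟨x, -, rfl⟩ := Finset.mem_image.1 hv
    exact hint x) ?_
  let s : SubMulAction T X :=
    { carrier := {x | f x = v}, smul_mem' := fun g x (hx : f x = v) => (hf g x).trans hx }
  have h1 : (Finset.univ.filter fun x => f x = v).card = Nat.card s := by
    rw [← Fintype.card_subtype, ← Nat.card_eq_fintype_card]
    rfl
  have h2 : ((Finset.univ.filter fun x => ∀ t : T, t • x = x).filter fun x => f x = v).card =
      Nat.card (MulAction.fixedPoints T s) := by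
    rw [Finset.filter_filter, ← Fintype.card_subtype, ← Nat.card_eq_fintype_card]
    exact Nat.card_congr
      { toFun := fun x => ⟨⟨x.1, x.2.2⟩, fun t => Subtype.ext (x.2.1 t)⟩
        invFun := fun x => ⟨x.1.1, fun t => congrArg Subtype.val (x.2 t), x.1.2⟩
        left_inv := fun _ => rfl
        right_inv := fun _ => rfl }
  have h3 := hT.card_modEq_card_fixedPoints s
  rw [h1, h2]
  obtain ⟨k, hk⟩ := h3.symm.dvd
  refine ⟨(k : ℂ), isIntegral_algebraMap (x := k), ?_⟩
  have := congrArg (fun t : ℤ => (t : ℂ)) hk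
  push_cast at this
  exact this

end Cfsg.Agent.Char.Glauberman
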