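import Mathlib
import Cfsg.Agent.Char.Glauberman.Cong
import Cfsg.Agent.Char.Gen
import Cfsg.Agent.Char.Induced
import Cfsg.Agent.Char.ClassAlg

/-!
# The Glauberman correspondence for a p-group of operators
-/

namespace Cfsg.Agent.Char.Glauberman

open scoped ComplexConjugate

universe u v

variable {G : Type u} [Group G] {A : Type v} [Group A]

/-- The fixed points of a group of operators. -/
def Fixed (a : A →* MulAut G) : Subgroup G where
  carrier := {g | ∀ t : A, a t g = g}
  one_mem' := fun t => map_one (a t)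
  mul_mem' := fun {x y} hx hy t => by rw [map_mul, hx t, hy t]
  inv_mem' := fun {x} hx t => by rw [map_inv, hx t]

theorem mem_fixed {a : A →* MulAut G} {g : G} : g ∈ Fixed a ↔ ∀ t : A, a t g = g := Iff.rfl

/-- A function invariant under a group of operators. -/
def InvFun (a : A →* MulAut G) (f : G → ℂ) : Prop := ∀ (t : A) (g : G), f (a t g) = f g

/-- Composition of an irreducible character with an automorphism. -/
noncomputable def precomp (e : G ≃* G) (χ : IrrCharacter G) : IrrCharacter G :=
  ⟨fun g => (χ : G → ℂ) (e g), (isIrrCharacter_comp_equiv e).2 χ.2⟩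

@[simp] theorem precomp_apply (e : G ≃* G) (χ : IrrCharacter G) (g : G) :
    (precomp e χ : G → ℂ) g = (χ : G → ℂ) (e g) := rfl

section Mult

variable [Fintype G] (H : Subgroup G) [Fintype H]

/-- The multiplicity of `β` in the restriction of `χ`. -/
noncomputable def mult (χ : IrrCharacter G) (β : IrrCharacter H) : ℕ :=
  Classical.choose (classInner_isCharacter_eq_natCast
    (isCharacter_res H (IsIrr.isCharacter χ.2)) (IsIrr.isCharacter β.2))

theorem mult_spec (χ : IrrCharacter G) (β : IrrCharacter H) :
    classInner (fun h : H => (χ : G → ℂ) h) (β : H → ℂ) = (mult H χ β : ℂ) :=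
  Classical.choose_spec (classInner_isCharacter_eq_natCast
    (isCharacter_res H (IsIrr.isCharacter χ.2)) (IsIrr.isCharacter β.2))

theorem res_eq_sum (χ : IrrCharacter G) (c : H) :
    (χ : G → ℂ) c = ∑ β : IrrCharacter H, (mult H χ β : ℂ) * (β : H → ℂ) c := by
  have := congrFun (classFun_expansion (isClassFunction_of_isCharacter
    (isCharacter_res H (IsIrr.isCharacter χ.2)))) c
  simp only [Finset.sum_apply, Pi.smul_apply, smul_eq_mul, mult_spec] at this
  exact this

theorem sum_mul_conj (χ χ' : IrrCharacter G) :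
    ∑ c : H, (χ : G → ℂ) c * conj ((χ' : G → ℂ) c) =
      (Nat.card H : ℂ) * ∑ β : IrrCharacter H, (mult H χ β : ℂ) * (mult H χ' β : ℂ) := by
  have h := classInner_eq_sum (f' := fun c : H => (χ' : G → ℂ) c) (isClassFunction_of_isCharacter
    (isCharacter_res H (IsIrr.isCharacter χ.2)))
  have h' : ∀ β : IrrCharacter H, classInner (β : H → ℂ) (fun c : H => (χ' : G → ℂ) c) =
      (mult H χ' β : ℂ) := fun β => by rw [← classInner_conj_symm, mult_spec, map_natCast]
  simp only [mult_spec, h'] at h
  rw [← h, classInner, ← mul_assoc, mul_inv_cancel₀ card_ne_zero, one_mul]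

end Mult

theorem sum_irr_mul [Fintype G] (χ χ' : IrrCharacter G) [DecidableEq (IrrCharacter G)] :
    ∑ g : G, (χ : G → ℂ) g * conj ((χ' : G → ℂ) g) = if χ = χ' then (Nat.card G : ℂ) else 0 := by
  have h := classInner_irrChar χ χ'
  simp only [classInner, inv_mul_eq_iff_eq_mul₀ card_ne_zero, mul_ite, mul_one, mul_zero] at h
  exact h

theorem isIntegral_irr [Finite G] (χ : IrrCharacter G) (g : G) : IsIntegral ℤ ((χ : G → ℂ) g) :=
  IsChar.isIntegral (IsIrr.isCharacter χ.2) g

theorem isIntegral_conj_irr [Finite G] (χ : IrrCharacter G) (g : G) :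
    IsIntegral ℤ (conj ((χ : G → ℂ) g)) := by
  rw [← IsChar.inv_eq_conj (IsIrr.isCharacter χ.2)]
  exact isIntegral_irr χ g⁻¹

end Cfsg.Agent.Char.Glauberman
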