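import Mathlib
import Cfsg.Agent.Char.Glauberman.Basic

/-!
# The Glauberman correspondence, coprime p-group of operators
-/

namespace Cfsg.Agent.Char.Glauberman

open scoped ComplexConjugate

universe u v

variable {G : Type u} [Group G] [Fintype G] {A : Type v} [Group A] {p : ℕ} [hp : Fact p.Prime]
  {a : A →* MulAut G} (hA : IsPGroup p A) (hcop : ¬ p ∣ Nat.card G)
  [Fintype (Fixed a)]

include hA in
theorem sum_cong (f : G → ℂ) (hf : InvFun a f) (hint : ∀ g, IsIntegral ℤ (f g)) :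
    Cong p (∑ g, f g) (∑ c : Fixed a, f c) := by
  classical
  letI : MulAction A G := MulAction.compHom G a
  have h := sum_cong_fixed hA f (fun t x => hf t x) hint
  rwa [Finset.sum_subtype (p := (· ∈ Fixed a)) (Finset.univ.filter fun x => ∀ t : A, t • x = x)
    (fun x => by rw [Finset.mem_filter]; exact ⟨fun h => h.2, fun h => ⟨Finset.mem_univ x, h⟩⟩) f] at h

include hA in
theorem card_cast_eq : (Nat.card G : ZMod p) = (Nat.card (Fixed a) : ZMod p) := by
  refine Cong.zmod_eq hp.out.ne_zero ?_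
  have h := sum_cong (a := a) hA (fun _ => 1) (fun _ _ => rfl) fun _ => isIntegral_one
  simpa [Nat.card_eq_fintype_card] using h

include hcop in
omit [Fintype (Fixed a)] in
theorem card_cast_ne_zero : (Nat.card G : ZMod p) ≠ 0 := by
  rwa [Ne, ZMod.natCast_eq_zero_iff]

/-- The multiplicities modulo `p`. -/
noncomputable def vec (a : A →* MulAut G) [Fintype (Fixed a)] (χ : IrrCharacter G)
    (β : IrrCharacter (Fixed a)) : ZMod p := (mult (Fixed a) χ β : ZMod p)

include hA hcop in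
theorem vec_inner [DecidableEq (IrrCharacter G)] {χ χ' : IrrCharacter G}
    (hχ : InvFun a (χ : G → ℂ)) (hχ' : InvFun a (χ' : G → ℂ)) :
    ∑ β, vec (p := p) a χ β * vec (p := p) a χ' β = if χ = χ' then 1 else 0 := by
  have h := sum_cong (p := p) (a := a) hA (fun g => (χ : G → ℂ) g * conj ((χ' : G → ℂ) g))
    (fun t g => by
      show (χ : G → ℂ) (a t g) * conj ((χ' : G → ℂ) (a t g)) = _
      rw [hχ t g, hχ' t g])
    (fun g => (isIntegral_irr χ g).mul (isIntegral_conj_irr χ' g))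
  rw [sum_irr_mul, sum_mul_conj,
    show (if χ = χ' then (Nat.card G : ℂ) else 0) = ((if χ = χ' then Nat.card G else 0 : ℕ) : ℂ) by
      split_ifs <;> simp] at h
  simp only [← Nat.cast_mul, ← Nat.cast_sum] at h
  have h2 := Cong.zmod_eq hp.out.ne_zero h
  rw [Nat.cast_ite, Nat.cast_zero, Nat.cast_mul, ← card_cast_eq (a := a) hA, Nat.cast_sum] at h2
  apply mul_left_cancel₀ (card_cast_ne_zero (p := p) hcop)
  simp only [vec, mul_ite, mul_one, mul_zero]
  rw [h2]
  simp only [Nat.cast_mul]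

/-- The order divided by the degree. -/
noncomputable def codeg {H : Type u} [Group H] [Fintype H] (η : IrrCharacter H) : ℕ :=
  Nat.card H / (Classical.choose (IsIrr.degree η.2))

theorem codeg_spec {H : Type u} [Group H] [Fintype H] (η : IrrCharacter H) :
    (η : H → ℂ) 1 * (codeg η : ℂ) = (Nat.card H : ℂ) := by
  obtain ⟨-, hn⟩ := Classical.choose_spec (IsIrr.degree η.2)
  rw [hn, ← Nat.cast_mul, codeg, Nat.mul_div_cancel' (IsIrr.degree_dvd_card η.2 hn)]

omit [Fintype G] [Fintype (Fixed a)] in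
theorem sum_conj_pair {H : Type u} [Group H] [Fintype H] (η : IrrCharacter H) (x y : H) :
    ∑ c : H, (η : H → ℂ) (c * x * c⁻¹ * y) = (codeg η : ℂ) * (η : H → ℂ) x * (η : H → ℂ) y := by
  apply mul_left_cancel₀ (IsIrr.one_ne_zero η.2)
  rw [sum_conj_mul η.2, ← mul_assoc, ← mul_assoc, codeg_spec]

include hA hcop in
theorem vec_mul {χ : IrrCharacter G} (hχ : InvFun a (χ : G → ℂ))
    {β γ : IrrCharacter (Fixed a)} (hne : β ≠ γ) : vec (p := p) a χ β * vec (p := p) a χ γ = 0 := by
  classical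
  have hin : ∀ η ξ : IrrCharacter (Fixed a),
      ∑ x, (η : Fixed a → ℂ) x * conj ((ξ : Fixed a → ℂ) x) =
        if η = ξ then (Nat.card (Fixed a) : ℂ) else 0 := fun η ξ => sum_irr_mul η ξ
  have hres : ∀ ξ : IrrCharacter (Fixed a), ∑ x : Fixed a, (χ : G → ℂ) x * conj ((ξ : Fixed a → ℂ) x)
      = (Nat.card (Fixed a) : ℂ) * (mult (Fixed a) χ ξ : ℂ) := fun ξ => by
    rw [← mult_spec, classInner, ← mul_assoc, mul_inv_cancel₀ card_ne_zero, one_mul]
  have key : ∀ x y : Fixed a, Cong p ((Nat.card G : ℂ) * (χ : G → ℂ) x * (χ : G → ℂ) y)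
      ((χ : G → ℂ) 1 * ∑ c : Fixed a, (χ : G → ℂ) (c * x * (c : G)⁻¹ * y)) := by
    intro x y
    rw [← sum_conj_mul χ.2]
    refine (sum_cong (a := a) hA (fun g => (χ : G → ℂ) (g * x * g⁻¹ * y)) (fun t g => ?_)
      fun g => isIntegral_irr χ _).mul_left (isIntegral_irr χ 1)
    show (χ : G → ℂ) (a t g * x * (a t g)⁻¹ * y) = (χ : G → ℂ) (g * x * g⁻¹ * y)
    rw [← hχ t (g * x * g⁻¹ * y), map_mul, map_mul, map_mul, map_inv, x.2 t, y.2 t]
  have hd : ∀ x y : Fixed a, IsIntegral ℤ (conj ((β : Fixed a → ℂ) x) * conj ((γ : Fixed a → ℂ) y)) :=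
    fun x y => (isIntegral_conj_irr β x).mul (isIntegral_conj_irr γ y)
  have h : Cong p
      (∑ x : Fixed a, ∑ y : Fixed a, (Nat.card G : ℂ) * (χ : G → ℂ) x * (χ : G → ℂ) y *
        (conj ((β : Fixed a → ℂ) x) * conj ((γ : Fixed a → ℂ) y)))
      (∑ x : Fixed a, ∑ y : Fixed a,
        (χ : G → ℂ) 1 * (∑ c : Fixed a, (χ : G → ℂ) (c * x * (c : G)⁻¹ * y)) *
        (conj ((β : Fixed a → ℂ) x) * conj ((γ : Fixed a → ℂ) y))) :=
    Cong.sum _ _ _ fun x _ => Cong.sum _ _ _ fun y _ => (key x y).mul_right (hd x y)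
  have hl : (∑ x : Fixed a, ∑ y : Fixed a, (Nat.card G : ℂ) * (χ : G → ℂ) x * (χ : G → ℂ) y *
        (conj ((β : Fixed a → ℂ) x) * conj ((γ : Fixed a → ℂ) y))) =
      ((Nat.card G * (Nat.card (Fixed a) * mult (Fixed a) χ β) *
        (Nat.card (Fixed a) * mult (Fixed a) χ γ) : ℕ) : ℂ) := by
    push_cast
    rw [← hres β, ← hres γ, mul_assoc, Finset.sum_mul_sum, Finset.mul_sum]
    refine Finset.sum_congr rfl fun x _ => ?_
    rw [Finset.mul_sum]
    exact Finset.sum_congr rfl fun y _ => by ring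
  have hr : (∑ x : Fixed a, ∑ y : Fixed a,
        (χ : G → ℂ) 1 * (∑ c : Fixed a, (χ : G → ℂ) (c * x * (c : G)⁻¹ * y)) *
        (conj ((β : Fixed a → ℂ) x) * conj ((γ : Fixed a → ℂ) y))) = 0 := by
    have h1 : ∀ x y : Fixed a, ∑ c : Fixed a, (χ : G → ℂ) (c * x * (c : G)⁻¹ * y) =
        ∑ η : IrrCharacter (Fixed a), (mult (Fixed a) χ η : ℂ) *
          ((codeg η : ℂ) * (η : Fixed a → ℂ) x * (η : Fixed a → ℂ) y) := by
      intro x y
      simp only [← sum_conj_pair, Finset.mul_sum]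
      rw [Finset.sum_comm]
      refine Finset.sum_congr rfl fun c _ => ?_
      rw [← res_eq_sum]
      rfl
    simp only [h1, Finset.mul_sum, Finset.sum_mul]
    rw [Finset.sum_congr rfl fun x _ => Finset.sum_comm, Finset.sum_comm]
    refine Finset.sum_eq_zero fun η _ => ?_
    rw [Finset.sum_congr rfl fun x _ => Finset.sum_congr rfl fun y _ =>
      show _ = (χ : G → ℂ) 1 * (mult (Fixed a) χ η : ℂ) * (codeg η : ℂ) *
          (((η : Fixed a → ℂ) x * conj ((β : Fixed a → ℂ) x)) *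
            ((η : Fixed a → ℂ) y * conj ((γ : Fixed a → ℂ) y))) by ring]
    simp only [← Finset.mul_sum, ← Finset.sum_mul, hin]
    by_cases h1 : η = β
    · rw [if_neg fun e : η = γ => hne (h1.symm.trans e), mul_zero, mul_zero]
    · rw [if_neg h1, zero_mul, mul_zero]
  rw [hl, hr] at h
  rw [← Nat.cast_zero (R := ℂ)] at h
  have h2 := Cong.zmod_eq hp.out.ne_zero h
  simp only [Nat.cast_mul, ← card_cast_eq (a := a) hA, Nat.cast_zero] at h2
  have hne0 := card_cast_ne_zero (p := p) hcop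
  rcases mul_eq_zero.1 h2 with h3 | h3
  · rcases mul_eq_zero.1 h3 with h4 | h4
    · exact absurd h4 hne0
    · rw [vec, (mul_eq_zero.1 h4).resolve_left hne0, zero_mul]
  · rw [vec, vec, (mul_eq_zero.1 h3).resolve_left hne0, mul_zero]

include hA hcop in
/-- Each invariant character has exactly one constituent of multiplicity prime to `p`. -/
theorem existsUnique_vec {χ : IrrCharacter G} (hχ : InvFun a (χ : G → ℂ)) :
    ∃! β : IrrCharacter (Fixed a), vec (p := p) a χ β ≠ 0 := by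
  classical
  have h := vec_inner hA hcop hχ hχ
  rw [if_pos rfl] at h
  obtain ⟨β, -, hβ⟩ := Finset.exists_ne_zero_of_sum_ne_zero (h.symm ▸ one_ne_zero :
    ∑ β, vec (p := p) a χ β * vec (p := p) a χ β ≠ 0)
  refine ⟨β, left_ne_zero_of_mul hβ, fun γ hγ => by_contra fun hne => ?_⟩
  exact mul_ne_zero hγ (left_ne_zero_of_mul hβ) (vec_mul hA hcop hχ hne)

include hA hcop in
theorem vec_eq_pm {χ : IrrCharacter G} (hχ : InvFun a (χ : G → ℂ)) {β : IrrCharacter (Fixed a)}
    (hβ : vec (p := p) a χ β ≠ 0) : vec (p := p) a χ β = 1 ∨ vec (p := p) a χ β = -1 := by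
  classical
  have h := vec_inner hA hcop hχ hχ
  rw [if_pos rfl, Finset.sum_eq_single β (fun γ _ hne =>
    by_contra fun h0 => hne ((existsUnique_vec hA hcop hχ).unique (left_ne_zero_of_mul h0) hβ))
    (fun h => absurd (Finset.mem_univ β) h)] at h
  exact mul_self_eq_one_iff.1 h

include hA hcop in
theorem eq_of_vec_ne_zero {χ χ' : IrrCharacter G} (hχ : InvFun a (χ : G → ℂ))
    (hχ' : InvFun a (χ' : G → ℂ)) {β : IrrCharacter (Fixed a)}
    (h : vec (p := p) a χ β ≠ 0) (h' : vec (p := p) a χ' β ≠ 0) : χ = χ' := by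
  classical
  by_contra hne
  have h2 := vec_inner hA hcop hχ hχ'
  rw [if_neg hne, Finset.sum_eq_single β (fun γ _ hne' =>
    by_contra fun h0 => hne' ((existsUnique_vec hA hcop hχ).unique (left_ne_zero_of_mul h0) h))
    (fun h => absurd (Finset.mem_univ β) h)] at h2
  exact mul_ne_zero h h' h2

omit [Fintype G] [Fintype (Fixed a)] in
theorem fixed_conj (t : A) (c : Fixed a) : a t (c : G) = c := c.2 t

include hA hcop in
theorem exists_vec_ne_zero (β : IrrCharacter (Fixed a)) :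
    ∃ χ : IrrCharacter G, InvFun a (χ : G → ℂ) ∧ vec (p := p) a χ β ≠ 0 := by
  classical
  by_contra! hno
  let R : G → ℂ := indFun (Fixed a) (β : Fixed a → ℂ)
  have hR : IsClassFunction G R := isClassFunction_indFun _ _
  have hm : ∀ χ : IrrCharacter G, classInner R (χ : G → ℂ) = (mult (Fixed a) χ β : ℂ) := fun χ => by
    rw [classInner_indFun_left _ _ (isClassFunction_of_isIrr χ.2), ← classInner_conj_symm,
      mult_spec, map_natCast]
  have hsum : classInner R R = ((∑ χ : IrrCharacter G, mult (Fixed a) χ β ^ 2 : ℕ) : ℂ) := by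
    rw [classInner_eq_sum hR]
    push_cast
    refine Finset.sum_congr rfl fun χ _ => ?_
    rw [← classInner_conj_symm R (χ : G → ℂ), hm, map_natCast, sq]
  have hR' : classInner R R =
      (Nat.card (Fixed a) : ℂ)⁻¹ * ∑ c : Fixed a, (β : Fixed a → ℂ) c * conj (R c) := by
    exact classInner_indFun_left _ _ hR
  have hval : ∀ c : Fixed a, Cong p ((Nat.card (Fixed a) : ℂ) * conj (R c))
      ((Nat.card (Fixed a) : ℂ) * conj ((β : Fixed a → ℂ) c)) := by
    intro c
    simp only [R, indFun_apply, map_mul, map_inv₀, map_natCast, map_sum]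
    rw [← mul_assoc, mul_inv_cancel₀ card_ne_zero, one_mul]
    have h := sum_cong (p := p) (a := a) hA
      (fun g => conj (extendByZero (Fixed a) (β : Fixed a → ℂ) (g⁻¹ * c * g))) (fun t g => ?_)
      (fun g => ?_)
    · refine h.trans ?_
      have h2 : ∀ x : Fixed a, conj (extendByZero (Fixed a) (β : Fixed a → ℂ)
          ((x : G)⁻¹ * c * x)) = conj ((β : Fixed a → ℂ) c) := fun x => by
        rw [show (x : G)⁻¹ * c * x = ((x⁻¹ * c * x : Fixed a) : G) from rfl, extendByZero_coe,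
          classFun_isConj (isClassFunction_of_isIrr β.2) (isConj_iff.2 ⟨x, by group⟩ :
            IsConj (x⁻¹ * c * x) c)]
      rw [Finset.sum_congr rfl fun x _ => h2 x, Finset.sum_const, Finset.card_univ, nsmul_eq_mul,
        ← Nat.card_eq_fintype_card]
      exact Cong.rfl'
    · show conj (extendByZero (Fixed a) (β : Fixed a → ℂ) ((a t g)⁻¹ * c * a t g)) = _
      have e : (a t g)⁻¹ * c * a t g = a t (g⁻¹ * c * g) := by
        rw [map_mul, map_mul, map_inv, c.2 t]
      rw [e]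
      show _ = conj (extendByZero (Fixed a) (β : Fixed a → ℂ) (g⁻¹ * c * g))
      by_cases hmem : g⁻¹ * c * g ∈ Fixed a
      · rw [hmem t]
      · have hmem' : a t (g⁻¹ * c * g) ∉ Fixed a := fun h' => hmem fun s => by
          have h3 : a t (g⁻¹ * c * g) = g⁻¹ * c * g := (a t).injective (h' t)
          rw [← h3]; exact h' s
        rw [extendByZero_of_not_mem _ _ hmem, extendByZero_of_not_mem _ _ hmem']
    · by_cases hmem : g⁻¹ * c * g ∈ Fixed a
      · rw [extendByZero_of_mem _ _ hmem]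
        exact isIntegral_conj_irr β _
      · rw [extendByZero_of_not_mem _ _ hmem, map_zero]
        exact isIntegral_zero
  have h := Cong.sum (p := p) Finset.univ _ _ fun c (_ : c ∈ (Finset.univ : Finset (Fixed a))) =>
    (hval c).mul_left (isIntegral_irr β c)
  have hl : ∑ c : Fixed a, (β : Fixed a → ℂ) c * ((Nat.card (Fixed a) : ℂ) * conj (R c)) =
      ((Nat.card (Fixed a) * Nat.card (Fixed a) * ∑ χ : IrrCharacter G, mult (Fixed a) χ β ^ 2 : ℕ) : ℂ) := by
    rw [Nat.cast_mul, ← hsum, hR', Nat.cast_mul, ← mul_assoc, mul_assoc (Nat.card (Fixed a) : ℂ),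
      mul_inv_cancel₀ card_ne_zero, mul_one, Finset.mul_sum]
    exact Finset.sum_congr rfl fun c _ => by ring
  have hr : ∑ c : Fixed a, (β : Fixed a → ℂ) c * ((Nat.card (Fixed a) : ℂ) * conj ((β : Fixed a → ℂ) c))
      = ((Nat.card (Fixed a) * Nat.card (Fixed a) : ℕ) : ℂ) := by
    rw [Nat.cast_mul]
    calc _ = (Nat.card (Fixed a) : ℂ) *
          ∑ c : Fixed a, (β : Fixed a → ℂ) c * conj ((β : Fixed a → ℂ) c) := by
          rw [Finset.mul_sum]
          exact Finset.sum_congr rfl fun c _ => by ring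
      _ = _ := by rw [sum_irr_mul, if_pos rfl]
  rw [hl, hr] at h
  have h2 := Cong.zmod_eq hp.out.ne_zero h
  rw [Nat.cast_mul _ (∑ χ, _), Nat.cast_mul, ← card_cast_eq (a := a) hA] at h2
  have h3 : ((∑ χ : IrrCharacter G, mult (Fixed a) χ β ^ 2 : ℕ) : ZMod p) = 1 :=
    (mul_eq_left₀ (mul_ne_zero (card_cast_ne_zero hcop) (card_cast_ne_zero hcop))).1 h2
  letI : MulAction A (IrrCharacter G) :=
    { smul := fun t χ => precomp (a t⁻¹) χ
      one_smul := fun χ => Subtype.ext (funext fun g => by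
        show (χ : G → ℂ) (a 1⁻¹ g) = _
        simp)
      mul_smul := fun s t χ => Subtype.ext (funext fun g => by
        show (χ : G → ℂ) (a (s * t)⁻¹ g) = (χ : G → ℂ) (a t⁻¹ (a s⁻¹ g))
        simp) }
  refine absurd h3 ?_
  have hd : p ∣ ∑ χ : IrrCharacter G, mult (Fixed a) χ β ^ 2 := by
    rw [← ZMod.natCast_eq_zero_iff]
    have hc := sum_cong_fixed hA (fun χ : IrrCharacter G => ((mult (Fixed a) χ β ^ 2 : ℕ) : ℂ))
      (fun t χ => ?_) (fun χ => isIntegral_algebraMap (x := ((mult (Fixed a) χ β ^ 2 : ℕ) : ℤ)))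
    · rw [← Nat.cast_sum, ← Nat.cast_sum] at hc
      rw [Cong.zmod_eq hp.out.ne_zero hc, Nat.cast_sum, Finset.sum_eq_zero]
      intro χ hχ
      have hinv : InvFun a (χ : G → ℂ) := fun t g => by
        have := congrArg (fun ψ : IrrCharacter G => (ψ : G → ℂ) g) ((Finset.mem_filter.1 hχ).2 t⁻¹)
        have e : (χ : G → ℂ) (a t⁻¹⁻¹ g) = (χ : G → ℂ) g := this
        rwa [inv_inv] at e
      rw [Nat.cast_pow, show (mult (Fixed a) χ β : ZMod p) = 0 from hno χ hinv, zero_pow two_ne_zero]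
    · show ((mult (Fixed a) (precomp (a t⁻¹) χ) β ^ 2 : ℕ) : ℂ) = _
      have e : mult (Fixed a) (precomp (a t⁻¹) χ) β = mult (Fixed a) χ β := by
        have h1 := mult_spec (Fixed a) (precomp (a t⁻¹) χ) β
        rw [show (fun h : Fixed a => (precomp (a t⁻¹) χ : G → ℂ) h) =
          fun h : Fixed a => (χ : G → ℂ) h from funext fun h => congrArg (χ : G → ℂ) (h.2 t⁻¹),
          mult_spec] at h1
        exact_mod_cast h1.symm
      rw [e]
  rw [← ZMod.natCast_eq_zero_iff] at hd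
  rw [hd]
  exact zero_ne_one

end Cfsg.Agent.Char.Glauberman
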