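import Mathlib
import Cfsg.Agent.Char.Glauberman.Correspondence
import Cfsg.Agent.Core.PCore

/-!
# Coprime solvable groups of operators: classes and characters
-/

namespace Cfsg.Agent.Char.Glauberman

open scoped ComplexConjugate

universe u v

variable {G : Type u} [Group G] {A : Type v} [Group A]

/-- The invariant irreducible characters. -/
def InvIrr (a : A →* MulAut G) : Type u := {χ : IrrCharacter G // InvFun a (χ : G → ℂ)}

/-- The invariant classes. -/
def InvClass (a : A →* MulAut G) : Type u :=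
  {K : ConjClasses G // ∀ (t : A) (g : G), ConjClasses.mk g = K → ConjClasses.mk (a t g) = K}

instance [Finite G] (a : A →* MulAut G) : Finite (InvIrr a) := Subtype.finite

theorem mult_precomp [Fintype G] (H : Subgroup G) [Fintype H] (e : G ≃* G) (e' : H ≃* H)
    (he : ∀ h : H, e (h : G) = (e' h : G)) (χ : IrrCharacter G) (β : IrrCharacter H) :
    mult H (precomp e χ) (precomp e' β) = mult H χ β := by
  have h1 := mult_spec H (precomp e χ) (precomp e' β)
  have h2 : classInner (fun h : H => (precomp e χ : G → ℂ) h) (precomp e' β : H → ℂ) =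
      classInner (fun h : H => (χ : G → ℂ) h) (β : H → ℂ) := by
    simp only [classInner, precomp_apply, he]
    exact congrArg _ (Fintype.sum_equiv e'.toEquiv _ _ fun h => rfl)
  rw [h2, mult_spec] at h1
  exact_mod_cast h1.symm

section PGroup

variable {p : ℕ} [hp : Fact p.Prime] {a : A →* MulAut G} (hA : IsPGroup p A)

include hA in
/-- A `p`-group of operators fixes a point of an invariant set of order prime to `p`. -/
theorem exists_fixed_mem [Finite G] (s : Set G) (hs : ∀ t : A, ∀ g ∈ s, a t g ∈ s)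
    (hcard : ¬ p ∣ Nat.card s) : ∃ g ∈ s, g ∈ Fixed a := by
  letI : MulAction A G := MulAction.compHom G a
  let s' : SubMulAction A G := { carrier := s, smul_mem' := fun t g hg => hs t g hg }
  have h := hA.card_modEq_card_fixedPoints s'
  have hne : Nat.card (MulAction.fixedPoints A s') ≠ 0 := fun h0 => hcard (by
    rw [h0] at h
    exact Nat.modEq_zero_iff_dvd.1 h)
  have : Nonempty (MulAction.fixedPoints A s') := (Nat.card_ne_zero.1 hne).1
  obtain ⟨⟨⟨g, hg⟩, hfix⟩⟩ := this
  exact ⟨g, hg, fun t => congrArg Subtype.val (hfix t)⟩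

variable (hcop : ¬ p ∣ Nat.card G)

include hA hcop in
/-- An invariant class meets the fixed points. -/
theorem exists_fixed_in_class [Finite G] {g : G} (h : ∀ t : A, IsConj g (a t g)) :
    ∃ c ∈ Fixed a, IsConj g c := by
  obtain ⟨c, hc, hcf⟩ := exists_fixed_mem hA {x : G | IsConj g x} (fun t x (hx : IsConj g x) => by
    obtain ⟨k, hk⟩ := isConj_iff.1 hx
    refine IsConj.trans (h t) (isConj_iff.2 ⟨a t k, ?_⟩)
    rw [← map_inv, ← map_mul, ← map_mul, hk])
    (fun hd => hcop (by
      rw [show Nat.card {x : G | IsConj g x} = _ from card_isConj_eq_index g] at hd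
      exact hd.trans (Subgroup.index_dvd_card _)))
  exact ⟨c, hcf, hc⟩

include hA hcop in
/-- Fixed elements conjugate in the group are conjugate among the fixed points. -/
theorem isConj_fixed [Finite G] {c c' : Fixed a} (h : IsConj (c : G) c') : IsConj c c' := by
  obtain ⟨k, hk⟩ := isConj_iff.1 h
  obtain ⟨d, hd, hdf⟩ := exists_fixed_mem hA {g : G | g * c * g⁻¹ = c'}
    (fun t g (hg : g * c * g⁻¹ = (c' : G)) => by
      have := congrArg (a t) hg
      rw [map_mul, map_mul, map_inv, c.2 t, c'.2 t] at this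
      exact this)
    (fun hdvd => hcop (by
      have he : Nat.card {g : G | g * c * g⁻¹ = (c' : G)} =
          Nat.card (Subgroup.centralizer ({(c : G)} : Set G)) := by
        refine Nat.card_congr ((Equiv.mulLeft k⁻¹).subtypeEquiv fun g => ?_)
        show g * c * g⁻¹ = c' ↔ k⁻¹ * g ∈ Subgroup.centralizer ({(c : G)} : Set G)
        rw [Subgroup.mem_centralizer_singleton_iff, ← mul_inv_eq_iff_eq_mul, ← hk,
          show k⁻¹ * g * (c : G) * (k⁻¹ * g)⁻¹ = k⁻¹ * (g * c * g⁻¹) * k by group]
        constructor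
        · intro e; rw [e]; group
        · intro e
          calc g * c * g⁻¹ = k * (k⁻¹ * (g * c * g⁻¹) * k) * k⁻¹ := by group
            _ = _ := by rw [e]
      rw [he] at hdvd
      exact hdvd.trans (Subgroup.card_subgroup_dvd_card _)))
  exact isConj_iff.2 ⟨⟨d, hdf⟩, Subtype.ext hd⟩

end PGroup

section Quotient

variable (a : A →* MulAut G) (T : Subgroup A) [T.Normal]

theorem apply_fixed_mem (x : A) (g : Fixed (a.comp T.subtype)) :
    a x (g : G) ∈ Fixed (a.comp T.subtype) := fun t => by
  show a (t : A) (a x g) = a x g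
  have h1 : a (x⁻¹ * t * x) (g : G) = g := g.2 ⟨x⁻¹ * t * x, by
    simpa using ‹T.Normal›.conj_mem (t : A) t.2 x⁻¹⟩
  conv_rhs => rw [← h1]
  simp [← MulAut.mul_apply, ← map_mul, mul_assoc]

/-- The action of `A` on the fixed points of a normal subgroup. -/
def fixedAct : A →* MulAut (Fixed (a.comp T.subtype)) where
  toFun x :=
    { toFun := fun g => ⟨a x g, apply_fixed_mem a T x g⟩
      invFun := fun g => ⟨a x⁻¹ g, apply_fixed_mem a T x⁻¹ g⟩
      left_inv := fun g => Subtype.ext (by simp)
      right_inv := fun g => Subtype.ext (by simp)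
      map_mul' := fun g h => Subtype.ext (map_mul (a x) _ _) }
  map_one' := MulEquiv.ext fun g => Subtype.ext (by simp)
  map_mul' x y := MulEquiv.ext fun g => Subtype.ext (by simp)

/-- The action of `A ⧸ T` on the fixed points of `T`. -/
def quotAct : A ⧸ T →* MulAut (Fixed (a.comp T.subtype)) :=
  QuotientGroup.lift T (fixedAct a T) fun t ht =>
    MonoidHom.mem_ker.2 (MulEquiv.ext fun g => Subtype.ext (g.2 ⟨t, ht⟩))

theorem quotAct_mk (x : A) (g : Fixed (a.comp T.subtype)) :
    ((quotAct a T (x : A ⧸ T) g : Fixed (a.comp T.subtype)) : G) = a x g := rfl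

variable {p : ℕ} [hp : Fact p.Prime] (hT : IsPGroup p T) (hcop : ¬ p ∣ Nat.card G)

include hT hcop in
theorem vec_precomp [Fintype G] [Fintype (Fixed (a.comp T.subtype))] (x : A) (χ : IrrCharacter G)
    (β : IrrCharacter (Fixed (a.comp T.subtype))) :
    vec (p := p) (a.comp T.subtype) (precomp (a x) χ) (precomp (quotAct a T (x : A ⧸ T)) β) =
      vec (p := p) (a.comp T.subtype) χ β :=
  congrArg _ (mult_precomp _ _ _ (fun g => (quotAct_mk a T x g).symm) χ β)

include hT hcop in
/-- The correspondence commutes with the remaining operators. -/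
theorem card_invIrr_eq [Finite G] :
    Nat.card (InvIrr a) = Nat.card (InvIrr (quotAct a T)) := by
  classical
  have := Fintype.ofFinite G
  have : Fintype (Fixed (a.comp T.subtype)) := Fintype.ofFinite _
  have hinv : ∀ χ : InvIrr a, InvFun (a.comp T.subtype) (χ.1 : G → ℂ) := fun χ t g => χ.2 t g
  choose β hβ hβu using fun χ : InvIrr a => existsUnique_vec hT hcop (hinv χ)
  have hβinv : ∀ χ : InvIrr a, InvFun (quotAct a T) (β χ : Fixed (a.comp T.subtype) → ℂ) := by
    intro χ y g
    obtain ⟨x, rfl⟩ := QuotientGroup.mk_surjective y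
    have h : vec (p := p) (a.comp T.subtype) χ.1 (β χ) ≠ 0 := hβ χ
    rw [← vec_precomp a T hT hcop x χ.1 (β χ),
      show precomp (a x) χ.1 = χ.1 from Subtype.ext (funext fun g => χ.2 x g)] at h
    exact congrArg (fun ψ : IrrCharacter (Fixed (a.comp T.subtype)) =>
      (ψ : Fixed (a.comp T.subtype) → ℂ) g) (hβu χ _ h)
  refine Nat.card_eq_of_bijective (fun χ => ⟨β χ, hβinv χ⟩) ⟨fun χ χ' e => ?_, fun η => ?_⟩
  · have e' : β χ = β χ' := congrArg Subtype.val e
    exact Subtype.ext (eq_of_vec_ne_zero hT hcop (hinv χ) (hinv χ') (hβ χ) (e' ▸ hβ χ'))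
  · obtain ⟨χ, hχ, hv⟩ := exists_vec_ne_zero hT hcop η.1
    have hχA : InvFun a (χ : G → ℂ) := by
      intro x g
      have hχ' : InvFun (a.comp T.subtype) (precomp (a x) χ : G → ℂ) := by
        intro t g
        show (χ : G → ℂ) (a x (a (t : A) g)) = (χ : G → ℂ) (a x g)
        rw [← hχ ⟨x * t * x⁻¹, ‹T.Normal›.conj_mem (t : A) t.2 x⟩ (a x g)]
        congr 1
        simp [← MulAut.mul_apply, ← map_mul]
      have hv' : vec (p := p) (a.comp T.subtype) (precomp (a x) χ) η.1 ≠ 0 := by
        rw [← show precomp (quotAct a T (x : A ⧸ T)) η.1 = η.1 from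
          Subtype.ext (funext fun g => η.2 _ g), vec_precomp a T hT hcop x χ η.1]
        exact hv
      exact congrArg (fun ψ : IrrCharacter G => (ψ : G → ℂ) g)
        (eq_of_vec_ne_zero hT hcop hχ' hχ hv' hv)
    exact ⟨⟨χ, hχA⟩, Subtype.ext (hβu ⟨χ, hχA⟩ η.1 hv).symm⟩

include hT hcop in
theorem card_invClass_eq [Finite G] :
    Nat.card (InvClass (quotAct a T)) = Nat.card (InvClass a) := by
  refine Nat.card_eq_of_bijective (fun K => ⟨ConjClasses.map (Fixed (a.comp T.subtype)).subtype K.1,
    fun x g hg => ?_⟩) ⟨fun K K' e => ?_, fun L => ?_⟩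
  · obtain ⟨c, hc⟩ := ConjClasses.mk_surjective K.1
    rw [← hc] at hg ⊢
    change ConjClasses.mk g = ConjClasses.mk (c : G) at hg
    show ConjClasses.mk (a x g) = ConjClasses.mk (c : G)
    obtain ⟨k, hk⟩ := isConj_iff.1 (ConjClasses.mk_eq_mk_iff_isConj.1 hg)
    have h1 : ConjClasses.mk (a x g) = ConjClasses.mk (a x (c : G)) :=
      ConjClasses.mk_eq_mk_iff_isConj.2 (isConj_iff.2 ⟨a x k, by
        rw [← map_inv, ← map_mul, ← map_mul, hk]⟩)
    rw [h1]
    have h2 := K.2 (x : A ⧸ T) c hc
    rw [← hc] at h2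
    exact congrArg (ConjClasses.map (Fixed (a.comp T.subtype)).subtype) h2
  · apply Subtype.ext
    obtain ⟨c, hc⟩ := ConjClasses.mk_surjective K.1
    obtain ⟨c', hc'⟩ := ConjClasses.mk_surjective K'.1
    have e' := congrArg Subtype.val e
    simp only [← hc, ← hc'] at e'
    rw [← hc, ← hc']
    exact ConjClasses.mk_eq_mk_iff_isConj.2
      (isConj_fixed hT hcop (ConjClasses.mk_eq_mk_iff_isConj.1 e'))
  · obtain ⟨g, hg⟩ := ConjClasses.mk_surjective L.1
    obtain ⟨c, hc, hcg⟩ := exists_fixed_in_class hT hcop (g := g) (a := a.comp T.subtype)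
      fun t => (ConjClasses.mk_eq_mk_iff_isConj.1 ((L.2 (t : A) g hg).trans hg.symm)).symm
    have hL : ConjClasses.mk c = L.1 := (ConjClasses.mk_eq_mk_iff_isConj.2 hcg).symm.trans hg
    refine ⟨⟨ConjClasses.mk ⟨c, hc⟩, fun y d hd => ?_⟩, Subtype.ext hL⟩
    obtain ⟨x, rfl⟩ := QuotientGroup.mk_surjective y
    apply ConjClasses.mk_eq_mk_iff_isConj.2
    refine isConj_fixed hT hcop (ConjClasses.mk_eq_mk_iff_isConj.1 ?_)
    rw [quotAct_mk]
    have hd' : ConjClasses.mk (d : G) = L.1 :=
      (congrArg (ConjClasses.map (Fixed (a.comp T.subtype)).subtype) hd).trans hL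
    exact (L.2 x d hd').trans hL.symm

end Quotient

theorem exists_normal_pGroup [Finite A] [Nontrivial A] (hA : Group.IsSolvable A) :
    ∃ (p : ℕ) (T : Subgroup A), p.Prime ∧ T.Normal ∧ IsPGroup p T ∧ T ≠ ⊥ ∧ p ∣ Nat.card A := by
  classical
  obtain ⟨n, hn⟩ := hA.solvable
  have hex : ∃ k, derivedSeries A k = ⊥ := ⟨n, hn⟩
  obtain ⟨k, hk⟩ : ∃ k, Nat.find hex = k + 1 := by
    refine Nat.exists_eq_succ_of_ne_zero fun h0 => ?_
    have h1 := Nat.find_spec hex
    rw [h0, derivedSeries_zero] at h1
    exact top_ne_bot h1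
  set D := derivedSeries A k with hD
  have hDne : D ≠ ⊥ := Nat.find_min hex (by omega)
  have hDcomm : ∀ x ∈ D, ∀ y ∈ D, x * y = y * x := by
    intro x hx y hy
    have h1 := Nat.find_spec hex
    rw [hk, derivedSeries_succ] at h1
    have h2 := Subgroup.commutator_mem_commutator hx hy
    rw [h1, Subgroup.mem_bot, commutatorElement_eq_one_iff_mul_comm] at h2
    exact h2
  have : Nontrivial D := (Subgroup.nontrivial_iff_ne_bot D).2 hDne
  obtain ⟨p, hp, hpd⟩ := Nat.exists_prime_and_dvd (n := Nat.card D)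
    (Finite.one_lt_card.ne')
  have := Fact.mk hp
  obtain ⟨P⟩ := Sylow.nonempty (p := p) (G := D)
  haveI : IsMulCommutative D := ⟨⟨fun x y => Subtype.ext (hDcomm x x.2 y y.2)⟩⟩
  haveI : (P : Subgroup D).Normal := ⟨fun m hm g => by
    have : g * m * g⁻¹ = m := Subtype.ext (by
      show (g : A) * m * (g : A)⁻¹ = m
      rw [hDcomm g g.2 m m.2, mul_inv_cancel_right])
    rw [this]; exact hm⟩
  haveI : (P : Subgroup D).Characteristic := P.characteristic_of_normal inferInstance
  haveI : D.Normal := derivedSeries_normal A k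
  refine ⟨p, (P : Subgroup D).map D.subtype, hp, ConjAct.normal_of_characteristic_of_normal,
    P.2.map _, fun e => ?_, hpd.trans (Subgroup.card_subgroup_dvd_card D)⟩
  rw [Subgroup.map_eq_bot_iff_of_injective _ D.subtype_injective] at e
  exact P.ne_bot_of_dvd_card hpd e

/-- Invariant characters and classes are equally many for coprime solvable operators. -/
theorem card_invIrr_eq_invClass : ∀ (n : ℕ) {G : Type u} [Group G] [Finite G] {A : Type v} [Group A]
    [Finite A] (a : A →* MulAut G), Nat.card A = n → Group.IsSolvable A →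
      (Nat.card G).Coprime (Nat.card A) → Nat.card (InvIrr a) = Nat.card (InvClass a) := by
  intro n
  induction n using Nat.strong_induction_on with
  | _ n ih =>
    intro G _ _ A _ _ a hn hsol hcop
    rcases subsingleton_or_nontrivial A with h | h
    · have h1 : ∀ t : A, a t = 1 := fun t => by rw [Subsingleton.elim t 1, map_one]
      calc Nat.card (InvIrr a) = Nat.card (IrrCharacter G) :=
            Nat.card_congr (Equiv.subtypeUnivEquiv fun χ t g => by rw [h1]; rfl)
        _ = Nat.card (ConjClasses G) := card_irrCharacter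
        _ = _ := (Nat.card_congr (Equiv.subtypeUnivEquiv fun K t g hg => by rw [h1]; exact hg)).symm
    · obtain ⟨p, T, hp, hTn, hT, hTne, hpA⟩ := exists_normal_pGroup hsol
      have := Fact.mk hp
      have hcop' : ¬ p ∣ Nat.card G := fun hd =>
        hp.not_dvd_one (hcop.gcd_eq_one ▸ Nat.dvd_gcd hd hpA)
      rw [card_invIrr_eq a T hT hcop', ← card_invClass_eq a T hT hcop']
      have hlt : Nat.card (A ⧸ T) < n := by
        rw [← hn, ← Subgroup.index_eq_card]
        refine lt_of_le_of_ne (Nat.le_of_dvd Nat.card_pos (Subgroup.index_dvd_card T)) fun e => hTne ?_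
        have h1 := Subgroup.card_mul_index T
        rw [e] at h1
        exact Subgroup.eq_bot_of_card_eq T ((mul_eq_right₀ Nat.card_pos.ne').1 h1)
      refine ih _ hlt (quotAct a T) rfl inferInstance ?_
      exact ((hcop.coprime_dvd_left (Subgroup.card_subgroup_dvd_card _)).coprime_dvd_right
        (Subgroup.card_quotient_dvd_card T))

end Cfsg.Agent.Char.Glauberman
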