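import Mathlib
import Cfsg.Agent.Char.Glauberman.Solvable

/-!
# Conjugation by a subgroup as a group of operators
-/

namespace Cfsg.Agent.Char.Glauberman

open scoped ComplexConjugate

universe u

variable {Γ : Type u} [Group Γ] {G S : Subgroup Γ}

/-- Conjugation of a normalized subgroup. -/
def conjOp (hnorm : ∀ s ∈ S, ∀ g ∈ G, s * g * s⁻¹ ∈ G) : S →* MulAut G where
  toFun s :=
    { toFun := fun g => ⟨(s : Γ) * g * (s : Γ)⁻¹, hnorm s s.2 g g.2⟩
      invFun := fun g => ⟨(s : Γ)⁻¹ * g * (s : Γ), by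
        simpa using hnorm (s : Γ)⁻¹ (inv_mem s.2) g g.2⟩
      left_inv := fun g => Subtype.ext (by simp [mul_assoc])
      right_inv := fun g => Subtype.ext (by simp [mul_assoc])
      map_mul' := fun g h => Subtype.ext (by simp [mul_assoc]) }
  map_one' := MulEquiv.ext fun g => Subtype.ext (by simp)
  map_mul' s t := MulEquiv.ext fun g => Subtype.ext (by simp [mul_assoc])

variable (hnorm : ∀ s ∈ S, ∀ g ∈ G, s * g * s⁻¹ ∈ G)

theorem conjOp_apply (s : S) (g : G) : ((conjOp hnorm s g : G) : Γ) = s * g * (s : Γ)⁻¹ := rfl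

theorem invFun_iff (f : G → ℂ) : InvFun (conjOp hnorm) f ↔
    ∀ s ∈ S, ∀ g g' : G, (g' : Γ) = s * g * s⁻¹ → f g' = f g := by
  refine ⟨fun h s hs g g' e => ?_, fun h s g => h s s.2 g _ rfl⟩
  rw [show g' = conjOp hnorm ⟨s, hs⟩ g from Subtype.ext e]
  exact h _ _

theorem invClass_iff (K : ConjClasses G) :
    (∀ (t : S) (g : G), ConjClasses.mk g = K → ConjClasses.mk (conjOp hnorm t g) = K) ↔
    ∀ s ∈ S, ∀ g g' : G, (g' : Γ) = s * g * s⁻¹ → ConjClasses.mk g = K → ConjClasses.mk g' = K := by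
  refine ⟨fun h s hs g g' e hg => ?_, fun h s g hg => h s s.2 g _ rfl hg⟩
  rw [show g' = conjOp hnorm ⟨s, hs⟩ g from Subtype.ext e]
  exact h _ _ hg

theorem fixed_eq : Fixed (conjOp hnorm) = (Subgroup.centralizer (S : Set Γ)).subgroupOf G := by
  ext g
  rw [mem_fixed, Subgroup.mem_subgroupOf, Subgroup.mem_centralizer_iff]
  refine ⟨fun h s hs => ?_, fun h s => Subtype.ext ?_⟩
  · exact mul_inv_eq_iff_eq_mul.1 (congrArg Subtype.val (h ⟨s, hs⟩))
  · rw [conjOp_apply, h s s.2, mul_inv_cancel_right]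

variable {C : Subgroup Γ} (hC : C = G ⊓ Subgroup.centralizer (S : Set Γ)) (hCG : C ≤ G)

/-- The fixed points as a subgroup of the ambient group. -/
def fixedEquiv : C ≃* Fixed (conjOp hnorm) where
  toFun c := ⟨⟨c, hCG c.2⟩, by
    rw [fixed_eq, Subgroup.mem_subgroupOf]
    exact (hC.le c.2).2⟩
  invFun g := ⟨(g : G), hC.ge ⟨g.1.2,
    Subgroup.mem_subgroupOf.1 ((fixed_eq hnorm).le g.2)⟩⟩
  left_inv _ := rfl
  right_inv _ := rfl
  map_mul' _ _ := rfl

/-- Irreducible characters transported along an isomorphism. -/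
noncomputable def irrEquiv {H K : Type u} [Group H] [Group K] (e : H ≃* K) :
    IrrCharacter K ≃ IrrCharacter H where
  toFun χ := ⟨fun h => (χ : K → ℂ) (e h), (isIrrCharacter_comp_equiv e).2 χ.2⟩
  invFun χ := ⟨fun k => (χ : H → ℂ) (e.symm k), (isIrrCharacter_comp_equiv e.symm).2 χ.2⟩
  left_inv χ := Subtype.ext (funext fun k => by simp)
  right_inv χ := Subtype.ext (funext fun h => by simp)

theorem classInner_fixed [Fintype G] [Fintype C] [Fintype (Fixed (conjOp hnorm))]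
    (χ : IrrCharacter G) (β : IrrCharacter (Fixed (conjOp hnorm))) :
    classInner (fun c : C => (χ : G → ℂ) ⟨c, hCG c.2⟩)
      (irrEquiv (fixedEquiv hnorm hC hCG) β : C → ℂ) = (mult (Fixed (conjOp hnorm)) χ β : ℂ) := by
  rw [← mult_spec, classInner, classInner, Nat.card_congr (fixedEquiv hnorm hC hCG).toEquiv]
  exact congrArg _ (Fintype.sum_equiv (fixedEquiv hnorm hC hCG).toEquiv _ _ fun c => rfl)

end Cfsg.Agent.Char.Glauberman
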