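import Mathlib
import Cfsg.Agent.Char.Glauberman.Bridge
import Cfsg.Agent.Char.Clifford

/-!
# Invariant characters above invariant characters, coprime operators
-/

namespace Cfsg.Agent.Char.Glauberman

open scoped ComplexConjugate

universe u v

variable {G : Type u} [Group G] {A : Type v} [Group A]

/-- Operators restricted to an invariant subgroup. -/
def restrictOp (a : A →* MulAut G) (N : Subgroup G) (h : ∀ (t : A), ∀ n ∈ N, a t n ∈ N) :
    A →* MulAut N where
  toFun t :=
    { toFun := fun n => ⟨a t n, h t n n.2⟩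
      invFun := fun n => ⟨a t⁻¹ n, h t⁻¹ n n.2⟩
      left_inv := fun n => Subtype.ext (by simp)
      right_inv := fun n => Subtype.ext (by simp)
      map_mul' := fun m n => Subtype.ext (map_mul (a t) _ _) }
  map_one' := MulEquiv.ext fun n => Subtype.ext (by simp)
  map_mul' s t := MulEquiv.ext fun n => Subtype.ext (by simp)

theorem restrictOp_apply (a : A →* MulAut G) (N : Subgroup G) (h : ∀ (t : A), ∀ n ∈ N, a t n ∈ N)
    (t : A) (n : N) : ((restrictOp a N h t n : N) : G) = a t n := rfl

theorem cast_sum_eq_single {ι : Type*} [Fintype ι] {p : ℕ} (f : ι → ℕ) (i : ι)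
    (h : ∀ j, j ≠ i → (f j : ZMod p) = 0) : ((∑ j, f j : ℕ) : ZMod p) = (f i : ZMod p) := by
  rw [Nat.cast_sum]
  exact Finset.sum_eq_single i (fun j _ hj => h j hj) fun hi => absurd (Finset.mem_univ i) hi

variable {p : ℕ} [hp : Fact p.Prime]

/-- The multiplicity of an invariant constituent is prime to `p`. -/
theorem not_dvd_mult_of_degree [Fintype G] {K : Subgroup G} [K.Normal] [Fintype K]
    (β : IrrCharacter G) (η : IrrCharacter K) (hne : mult K β η ≠ 0)
    (hcop : ¬ p ∣ Nat.card G) : ¬ p ∣ mult K β η := by
  intro hd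
  obtain ⟨m, -, hm⟩ := IsIrr.degree β.2
  obtain ⟨k, -, hk⟩ := IsIrr.degree η.2
  have h := degree_eq_of_clifford β.2 η.2 (by rw [mult_spec]; exact_mod_cast hne)
  rw [mult_spec, hm, hk, ← Nat.cast_mul, ← Nat.cast_mul, Nat.cast_inj] at h
  rw [mul_assoc] at h
  exact hcop ((hd.trans ⟨_, h⟩).trans (IsIrr.degree_dvd_card β.2 hm))

theorem exists_above_aux : ∀ (n : ℕ) {G : Type u} [Group G] [Fintype G] {A : Type v} [Group A]
    [Finite A] (a : A →* MulAut G) (N : Subgroup G) [N.Normal] [Fintype N]
    (h : ∀ (t : A), ∀ x ∈ N, a t x ∈ N) (θ : IrrCharacter N), Nat.card A = n → Group.IsSolvable A →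
      (Nat.card G).Coprime (Nat.card A) → InvFun (restrictOp a N h) (θ : N → ℂ) →
      ∃ χ : IrrCharacter G, InvFun a (χ : G → ℂ) ∧ mult N χ θ ≠ 0 := by
  intro n
  induction n using Nat.strong_induction_on with
  | _ n ih =>
    intro G _ _ A _ _ a N _ _ h θ hn hsol hcop hθ
    classical
    rcases subsingleton_or_nontrivial A with hA | hA
    · have hind := isCharacter_indFun N (IsIrr.isCharacter θ.2)
      have hne : indFun N (θ : N → ℂ) ≠ 0 := fun e => by
        have h1 := congrFun e 1
        rw [indFun_apply_one, Pi.zero_apply] at h1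
        exact mul_ne_zero (Nat.cast_ne_zero.2 Subgroup.index_ne_zero_of_finite)
          (IsIrr.one_ne_zero θ.2) h1
      obtain ⟨χ, hχ⟩ := IsChar.exists_constituent hind hne
      refine ⟨χ, fun t g => by rw [Subsingleton.elim t 1, map_one]; rfl, fun e => hχ ?_⟩
      rw [classInner_indFun_left N _ (isClassFunction_of_isIrr χ.2), ← classInner_conj_symm,
        mult_spec, e, Nat.cast_zero, map_zero]
    · obtain ⟨p, T, hp, hTn, hT, hTne, hpA⟩ := exists_normal_pGroup hsol
      have := Fact.mk hp
      have hpG : ¬ p ∣ Nat.card G := fun hd =>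
        hp.not_dvd_one (hcop.gcd_eq_one ▸ Nat.dvd_gcd hd hpA)
      have hpN : ¬ p ∣ Nat.card N := fun hd => hpG (hd.trans (Subgroup.card_subgroup_dvd_card N))
      have hlt : Nat.card (A ⧸ T) < n := by
        rw [← hn, ← Subgroup.index_eq_card]
        refine lt_of_le_of_ne (Nat.le_of_dvd Nat.card_pos (Subgroup.index_dvd_card T))
          fun e => hTne ?_
        have h1 := Subgroup.card_mul_index T
        rw [e] at h1
        exact Subgroup.eq_bot_of_card_eq T ((mul_eq_right₀ Nat.card_pos.ne').1 h1)
      set b := a.comp T.subtype with hb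
      set C := Fixed b with hC
      have : Fintype C := Fintype.ofFinite _
      let K : Subgroup C := N.subgroupOf C
      have : Fintype K := Fintype.ofFinite _
      set bN := (restrictOp a N h).comp T.subtype with hbN
      have : Fintype (Fixed bN) := Fintype.ofFinite _
      let e : K ≃* Fixed bN :=
        { toFun := fun k => ⟨⟨((k : C) : G), k.2⟩, fun t => Subtype.ext ((k : C).2 t)⟩
          invFun := fun m => ⟨⟨((m : N) : G), fun t => congrArg Subtype.val (m.2 t)⟩, m.1.2⟩
          left_inv := fun _ => rfl
          right_inv := fun _ => rfl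
          map_mul' := fun _ _ => rfl }
      -- the correspondent of `θ`
      have hθT : InvFun bN (θ : N → ℂ) := fun t g => hθ t g
      obtain ⟨θs, hθs, hθsu⟩ := existsUnique_vec (p := p) hT hpN hθT
      have hθsA : ∀ (x : A), precomp (quotAct (restrictOp a N h) T (x : A ⧸ T)) θs = θs := by
        intro x
        refine hθsu _ ?_
        have h1 := vec_precomp (p := p) (restrictOp a N h) T hT hpN x θ θs
        rw [show precomp (restrictOp a N h x) θ = θ from Subtype.ext (funext fun g => hθ x g)] at h1
        show vec (p := p) bN θ _ ≠ 0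
        rw [h1]
        exact hθs
      let η : IrrCharacter K := irrEquiv e θs
      have hK : ∀ (y : A ⧸ T), ∀ c ∈ K, quotAct a T y c ∈ K := by
        intro y c hc
        obtain ⟨x, rfl⟩ := QuotientGroup.mk_surjective y
        exact h x _ hc
      have hη : InvFun (restrictOp (quotAct a T) K hK) (η : K → ℂ) := by
        intro y k
        obtain ⟨x, rfl⟩ := QuotientGroup.mk_surjective y
        exact congrArg (fun ψ : IrrCharacter (Fixed bN) => (ψ : Fixed bN → ℂ) (e k)) (hθsA x)
      obtain ⟨β, hβ, hβη⟩ := ih _ hlt (quotAct a T) K hK η rfl inferInstance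
        ((hcop.coprime_dvd_left (Subgroup.card_subgroup_dvd_card _)).coprime_dvd_right
          (Subgroup.card_quotient_dvd_card T)) hη
      obtain ⟨χ, hχT, hχβ⟩ := exists_vec_ne_zero (p := p) hT hpG β
      have hχA : InvFun a (χ : G → ℂ) := by
        intro x g
        have hχ' : InvFun b (precomp (a x) χ : G → ℂ) := by
          intro t g
          show (χ : G → ℂ) (a x (a (t : A) g)) = (χ : G → ℂ) (a x g)
          rw [← hχT ⟨x * t * x⁻¹, hTn.conj_mem (t : A) t.2 x⟩ (a x g)]
          congr 1
          simp [hb, ← MulAut.mul_apply, ← map_mul]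
        have hv' : vec (p := p) b (precomp (a x) χ) β ≠ 0 := by
          rw [← show precomp (quotAct a T (x : A ⧸ T)) β = β from
            Subtype.ext (funext fun g => hβ _ g), vec_precomp a T hT hpG x χ β]
          exact hχβ
        exact congrArg (fun ψ : IrrCharacter G => (ψ : G → ℂ) g)
          (eq_of_vec_ne_zero hT hpG hχ' hχT hv' hχβ)
      refine ⟨χ, hχA, fun hzero => ?_⟩
      -- the two expansions of the multiplicity
      let m : ℂ := classInner (fun k : K => (χ : G → ℂ) ((k : C) : G)) (η : K → ℂ)
      have hm1 : m = ((∑ β' : IrrCharacter C, mult C χ β' * mult K β' η : ℕ) : ℂ) := by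
        have hf : (fun k : K => (χ : G → ℂ) ((k : C) : G)) =
            ∑ β' : IrrCharacter C, (mult C χ β' : ℂ) • fun k : K => (β' : C → ℂ) k := by
          funext k
          rw [Finset.sum_apply, res_eq_sum C χ (k : C)]
          rfl
        simp only [m, hf, classInner_sum_left, classInner_smul_left, mult_spec, Nat.cast_sum,
          Nat.cast_mul]
      have hm2 : m = ((∑ η' : IrrCharacter N, mult N χ η' * mult (Fixed bN) η' θs : ℕ) : ℂ) := by
        have hf : (fun k : K => (χ : G → ℂ) ((k : C) : G)) =
            ∑ η' : IrrCharacter N, (mult N χ η' : ℂ) • fun k : K => (η' : N → ℂ) (e k) := by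
          funext k
          rw [Finset.sum_apply, show ((k : C) : G) = ((e k : N) : G) from rfl, res_eq_sum N χ]
          rfl
        have hcl : ∀ η' : IrrCharacter N,
            classInner (fun k : K => (η' : N → ℂ) (e k)) (η : K → ℂ) =
              (mult (Fixed bN) η' θs : ℂ) := by
          intro η'
          rw [← mult_spec, classInner, classInner, Nat.card_congr e.toEquiv]
          exact congrArg _ (Fintype.sum_equiv e.toEquiv _ _ fun k => rfl)
        simp only [m, hf, classInner_sum_left, classInner_smul_left, hcl, Nat.cast_sum,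
          Nat.cast_mul]
      have heq := congrArg (fun t : ℕ => (t : ZMod p)) (Nat.cast_injective (hm1.symm.trans hm2))
      rw [cast_sum_eq_single _ β] at heq
      swap
      · intro β' hne
        have h0 : vec (p := p) b χ β' = 0 := by_contra fun h0 =>
          hne ((existsUnique_vec hT hpG hχT).unique h0 hχβ)
        rw [Nat.cast_mul, show (mult C χ β' : ZMod p) = 0 from h0, zero_mul]
      have hL : ((mult C χ β * mult K β η : ℕ) : ZMod p) ≠ 0 := by
        rw [Nat.cast_mul]
        refine mul_ne_zero hχβ ?_
        rw [Ne, ZMod.natCast_eq_zero_iff]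
        exact not_dvd_mult_of_degree β η hβη
          fun hd => hpG (hd.trans (Subgroup.card_subgroup_dvd_card C))
      apply hL
      rw [heq]
      letI : MulAction T (IrrCharacter N) :=
        { smul := fun t η' => precomp (bN t⁻¹) η'
          one_smul := fun η' => Subtype.ext (funext fun g => by
            show (η' : N → ℂ) (bN 1⁻¹ g) = _
            simp)
          mul_smul := fun s t η' => Subtype.ext (funext fun g => by
            show (η' : N → ℂ) (bN (s * t)⁻¹ g) = (η' : N → ℂ) (bN t⁻¹ (bN s⁻¹ g))
            simp) }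
      have hinv : ∀ (t : T) (η' : IrrCharacter N),
          mult N χ (precomp (bN t⁻¹) η') * mult (Fixed bN) (precomp (bN t⁻¹) η') θs =
            mult N χ η' * mult (Fixed bN) η' θs := by
        intro t η'
        have h1 := mult_precomp N (b t⁻¹) (bN t⁻¹) (fun g => rfl) χ η'
        rw [show precomp (b t⁻¹) χ = χ from Subtype.ext (funext fun g => hχT t⁻¹ g)] at h1
        have h2 := mult_precomp (Fixed bN) (bN t⁻¹) (MulEquiv.refl _)
          (fun g => g.2 t⁻¹) η' θs
        rw [show precomp (MulEquiv.refl (Fixed bN)) θs = θs from rfl] at h2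
        rw [h1, h2]
      have hc := sum_cong_fixed (p := p) hT
        (fun η' : IrrCharacter N => ((mult N χ η' * mult (Fixed bN) η' θs : ℕ) : ℂ))
        (fun t η' => congrArg Nat.cast (hinv t η'))
        (fun η' => isIntegral_algebraMap (x := ((mult N χ η' * mult (Fixed bN) η' θs : ℕ) : ℤ)))
      rw [← Nat.cast_sum, ← Nat.cast_sum] at hc
      rw [Cong.zmod_eq hp.ne_zero hc, Nat.cast_sum, Finset.sum_eq_zero]
      intro η' hη'
      have hη'T : InvFun bN (η' : N → ℂ) := fun t g => by
        have := congrArg (fun ψ : IrrCharacter N => (ψ : N → ℂ) g) ((Finset.mem_filter.1 hη').2 t⁻¹)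
        have e1 : (η' : N → ℂ) (bN t⁻¹⁻¹ g) = (η' : N → ℂ) g := this
        rwa [inv_inv] at e1
      by_cases he : η' = θ
      · rw [he, hzero, zero_mul, Nat.cast_zero]
      · have h0 : vec (p := p) bN η' θs = 0 := by_contra fun h0 =>
          he (eq_of_vec_ne_zero hT hpN hη'T hθT h0 hθs)
        rw [Nat.cast_mul, show (mult (Fixed bN) η' θs : ZMod p) = 0 from h0, mul_zero]

end Cfsg.Agent.Char.Glauberman
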