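import Mathlib
import Cfsg.Agent.Char.Glauberman.Solvable

/-!
# Glauberman's lemma: fixed points of compatible coprime actions
-/

namespace Cfsg.Agent.Char.Glauberman

open scoped commutatorElement

universe u v w

/-- Averaging: coprime operators on a transitive abelian action have a fixed point. -/
theorem exists_fixed_of_abelian {L : Type u} [CommGroup L] {A : Type v} [Group A] [Finite A]
    {X : Type w} (α : A →* MulAut L) (act : L →* Equiv.Perm X) (op : A →* Equiv.Perm X)
    (hcomm : ∀ (t : A) (l : L) (x : X), op t (act l x) = act (α t l) (op t x))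
    (htrans : ∀ x y : X, ∃ l, act l x = y) (x₀ : X) {m : ℕ} (hm : ∀ l : L, l ^ m = 1)
    (hcop : (Nat.card A).Coprime m) : ∃ x : X, ∀ t : A, op t x = x := by
  classical
  have := Fintype.ofFinite A
  choose d hd using fun t : A => htrans x₀ (op t x₀)
  -- elements acting equally at `x₀`
  let E : L → L → Prop := fun l l' => act l x₀ = act l' x₀
  have hEmul : ∀ {l l' k k' : L}, E l l' → E k k' → E (l * k) (l' * k') := by
    intro l l' k k' h1 h2
    show act (l * k) x₀ = act (l' * k') x₀
    rw [map_mul, Equiv.Perm.mul_apply, h2, ← Equiv.Perm.mul_apply, ← map_mul, mul_comm l k',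
      map_mul, Equiv.Perm.mul_apply, h1, ← Equiv.Perm.mul_apply, ← map_mul, mul_comm]
  have hEprod : ∀ (s : Finset A) (f g : A → L), (∀ i ∈ s, E (f i) (g i)) →
      E (∏ i ∈ s, f i) (∏ i ∈ s, g i) := by
    intro s
    induction s using Finset.induction_on with
    | empty => intro f g _; simp [E]
    | insert b s hb ih =>
      intro f g h
      rw [Finset.prod_insert hb, Finset.prod_insert hb]
      exact hEmul (h b (Finset.mem_insert_self b s)) (ih f g fun i hi => h i (Finset.mem_insert_of_mem hi))
  have hEpow : ∀ {l l' : L}, E l l' → ∀ n : ℕ, E (l ^ n) (l' ^ n) := by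
    intro l l' h n
    induction n with
    | zero => simp [E]
    | succ n ih => rw [pow_succ, pow_succ]; exact hEmul ih h
  have hcoc : ∀ t u : A, E (α t (d u) * d t) (d (t * u)) := by
    intro t u
    show act (α t (d u) * d t) x₀ = act (d (t * u)) x₀
    rw [hd, map_mul, Equiv.Perm.mul_apply, hd, ← hcomm, hd, map_mul, Equiv.Perm.mul_apply]
  obtain ⟨e, he⟩ : ∃ e : ℕ, ∀ l : L, l ^ (Nat.card A * e) = l := by
    obtain ⟨k, hk0, hk1⟩ := Nat.chineseRemainder hcop 0 1
    obtain ⟨e, rfl⟩ := Nat.modEq_zero_iff_dvd.1 hk0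
    refine ⟨e, fun l => ?_⟩
    conv_rhs => rw [← pow_one l]
    exact pow_eq_pow_iff_modEq.2 (hk1.of_dvd (orderOf_dvd_of_pow_eq_one (hm l)))
  refine ⟨act ((∏ u, d u) ^ e) x₀, fun t => ?_⟩
  have h1 : E ((∏ u, α t (d u)) * ∏ _u : A, d t) (∏ u, d (t * u)) := by
    rw [← Finset.prod_mul_distrib]
    exact hEprod _ _ _ fun u _ => hcoc t u
  rw [← map_prod, Finset.prod_const, Finset.card_univ, ← Nat.card_eq_fintype_card,
    (Fintype.prod_equiv (Equiv.mulLeft t) (fun u => d (t * u)) d fun u => rfl)] at h1
  have h2 := hEpow h1 e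
  rw [mul_pow, ← map_pow, ← pow_mul, he] at h2
  rw [hcomm, ← hd, ← Equiv.Perm.mul_apply, ← map_mul]
  exact h2

/-- Data of compatible actions. -/
structure Compat {Q : Type u} [Group Q] {A : Type v} [Group A] {X : Type w} (a : A →* MulAut Q)
    (act : Q →* Equiv.Perm X) (op : A →* Equiv.Perm X) : Prop where
  comm : ∀ (t : A) (q : Q) (x : X), op t (act q x) = act (a t q) (op t x)
  trans : ∀ x y : X, ∃ q, act q x = y

theorem glauberman_solvable_ops : ∀ (n : ℕ) {Q : Type u} [Group Q] [Finite Q] {A : Type v} [Group A]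
    [Finite A] {X : Type w} [Finite X] (a : A →* MulAut Q) (act : Q →* Equiv.Perm X)
    (op : A →* Equiv.Perm X), Compat a act op → Nat.card A = n → Group.IsSolvable A →
    (Nat.card Q).Coprime (Nat.card A) → Nonempty X → ∃ x : X, ∀ t : A, op t x = x := by
  intro n
  induction n using Nat.strong_induction_on with
  | _ n ih =>
    intro Q _ _ A _ _ X _ a act op hc hn hsol hcop hX
    classical
    rcases subsingleton_or_nontrivial A with hA | hA
    · obtain ⟨x⟩ := hX
      exact ⟨x, fun t => by rw [Subsingleton.elim t 1, map_one]; rfl⟩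
    obtain ⟨p, T, hp, hTn, hT, hTne, hpA⟩ := exists_normal_pGroup hsol
    have := Fact.mk hp
    have hpQ : ¬ p ∣ Nat.card Q := fun hd =>
      hp.not_dvd_one (hcop.gcd_eq_one ▸ Nat.dvd_gcd hd hpA)
    obtain ⟨x₀⟩ := hX
    -- fixed points of `T` exist
    letI : MulAction Q X := MulAction.compHom X act
    have hcardX : Nat.card X ∣ Nat.card Q := by
      have h1 : Nat.card (MulAction.orbit Q x₀) = Nat.card X :=
        Nat.card_congr (Equiv.subtypeUnivEquiv fun y => MulAction.mem_orbit_iff.2 (hc.trans x₀ y))
      rw [← h1]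
      rw [Nat.card_congr (MulAction.orbitEquivQuotientStabilizer Q x₀)]
      exact Subgroup.card_quotient_dvd_card _
    let opT : T →* Equiv.Perm X := op.comp T.subtype
    letI : MulAction T X := MulAction.compHom X opT
    have hne : Nat.card (MulAction.fixedPoints T X) ≠ 0 := fun h0 => hpQ (by
      have h := hT.card_modEq_card_fixedPoints X
      rw [h0] at h
      exact (Nat.modEq_zero_iff_dvd.1 h).trans hcardX)
    obtain ⟨⟨y₀, hy₀⟩⟩ : Nonempty (MulAction.fixedPoints T X) := (Nat.card_ne_zero.1 hne).1
    let Y := {x : X // ∀ t : T, op t x = x}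
    have hact : ∀ (q : Fixed (a.comp T.subtype)) (x : X),
        (∀ t : T, op t x = x) → ∀ t : T, op t (act q x) = act q x := by
      intro q x hx t
      rw [hc.comm, hx, show a (t : A) (q : Q) = q from q.2 t]
    have hop : ∀ (u : A) (x : X), (∀ t : T, op t x = x) → ∀ t : T, op t (op u x) = op u x := by
      intro u x hx t
      have h1 := hx ⟨u⁻¹ * t * u, by simpa using hTn.conj_mem (t : A) t.2 u⁻¹⟩
      calc op t (op u x) = op u (op (u⁻¹ * t * u) x) := by
            simp [← Equiv.Perm.mul_apply, mul_assoc, ← map_mul]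
        _ = op u x := by rw [h1]
    let act' : Fixed (a.comp T.subtype) →* Equiv.Perm Y :=
      { toFun := fun q => (act q).subtypeEquiv fun x => ⟨hact q x, fun h => by
          have := hact q⁻¹ (act q x) h
          simpa using this⟩
        map_one' := Equiv.ext fun x => Subtype.ext (by simp)
        map_mul' := fun q r => Equiv.ext fun x => Subtype.ext (by simp) }
    let opY : A →* Equiv.Perm Y :=
      { toFun := fun u => (op u).subtypeEquiv fun x => ⟨hop u x, fun h => by
          have := hop u⁻¹ (op u x) h
          simpa using this⟩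
        map_one' := Equiv.ext fun x => Subtype.ext (by simp)
        map_mul' := fun q r => Equiv.ext fun x => Subtype.ext (by simp) }
    let op' : A ⧸ T →* Equiv.Perm Y := QuotientGroup.lift T opY fun t ht =>
      MonoidHom.mem_ker.2 (Equiv.ext fun x => Subtype.ext (x.2 ⟨t, ht⟩))
    have hc' : Compat (quotAct a T) act' op' := by
      refine ⟨fun y q x => ?_, fun x y => ?_⟩
      · obtain ⟨u, rfl⟩ := QuotientGroup.mk_surjective y
        exact Subtype.ext (hc.comm u q x.1)
      · obtain ⟨q, hq⟩ := hc.trans x.1 y.1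
        obtain ⟨r, hr, hrf⟩ := exists_fixed_mem (a := a.comp T.subtype) hT {r : Q | act r x.1 = y.1}
          (fun t r (hr : act r x.1 = y.1) => by
            show act (a (t : A) r) x.1 = y.1
            have := hc.comm (t : A) r x.1
            rw [hr, x.2 t, y.2 t] at this
            exact this.symm)
          (fun hd => hpQ (by
            have he : Nat.card {r : Q | act r x.1 = y.1} = Nat.card (MulAction.stabilizer Q x.1) := by
              refine Nat.card_congr ((Equiv.mulLeft q⁻¹).subtypeEquiv fun r => ?_)
              show act r x.1 = y.1 ↔ act (q⁻¹ * r) x.1 = x.1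
              rw [map_mul, Equiv.Perm.mul_apply, map_inv, Equiv.Perm.inv_eq_iff_eq, hq]
            rw [he] at hd
            exact hd.trans (Subgroup.card_subgroup_dvd_card _)))
        exact ⟨⟨r, hrf⟩, Subtype.ext hr⟩
    have hlt : Nat.card (A ⧸ T) < n := by
      rw [← hn, ← Subgroup.index_eq_card]
      refine lt_of_le_of_ne (Nat.le_of_dvd Nat.card_pos (Subgroup.index_dvd_card T))
        fun e => hTne ?_
      have h1 := Subgroup.card_mul_index T
      rw [e] at h1
      exact Subgroup.eq_bot_of_card_eq T ((mul_eq_right₀ Nat.card_pos.ne').1 h1)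
    obtain ⟨y, hy⟩ := ih _ hlt (quotAct a T) act' op' hc' rfl inferInstance
      ((hcop.coprime_dvd_left (Subgroup.card_subgroup_dvd_card _)).coprime_dvd_right
        (Subgroup.card_quotient_dvd_card T)) ⟨⟨y₀, hy₀⟩⟩
    exact ⟨y.1, fun u => congrArg Subtype.val (hy (u : A ⧸ T))⟩

theorem glauberman_solvable_group : ∀ (n : ℕ) {Q : Type u} [Group Q] [Finite Q] {A : Type v} [Group A]
    [Finite A] {X : Type w} [Finite X] (a : A →* MulAut Q) (act : Q →* Equiv.Perm X)
    (op : A →* Equiv.Perm X), Compat a act op → Nat.card Q = n → Group.IsSolvable Q →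
    (Nat.card Q).Coprime (Nat.card A) → Nonempty X → ∃ x : X, ∀ t : A, op t x = x := by
  intro n
  induction n using Nat.strong_induction_on with
  | _ n ih =>
    intro Q _ _ A _ _ X _ a act op hc hn hsol hcop hX
    classical
    rcases subsingleton_or_nontrivial Q with hQ | hQ
    · obtain ⟨x⟩ := hX
      refine ⟨x, fun t => ?_⟩
      obtain ⟨q, hq⟩ := hc.trans x (op t x)
      rw [Subsingleton.elim q 1, map_one] at hq
      exact hq.symm
    obtain ⟨k, hk⟩ : ∃ k, derivedSeries Q k ≠ ⊥ ∧ derivedSeries Q (k + 1) = ⊥ := by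
      obtain ⟨m, hm⟩ := hsol.solvable
      induction m with
      | zero => exact absurd (derivedSeries_zero Q ▸ hm) top_ne_bot
      | succ m ihm =>
        by_cases h : derivedSeries Q m = ⊥
        · exact ihm h
        · exact ⟨m, h, hm⟩
    set M := derivedSeries Q k with hM
    have hMn : M.Normal := derivedSeries_normal Q k
    have hMc : ∀ x ∈ M, ∀ y ∈ M, x * y = y * x := by
      intro x hx y hy
      have h1 : ⁅x, y⁆ ∈ derivedSeries Q (k + 1) := by
        rw [derivedSeries_succ]; exact Subgroup.commutator_mem_commutator hx hy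
      rw [hk.2, Subgroup.mem_bot, commutatorElement_eq_one_iff_mul_comm] at h1
      exact h1
    have hMa : ∀ (t : A), ∀ x ∈ M, a t x ∈ M := fun t x hx => by
      have := map_derivedSeries_le_derivedSeries (a t).toMonoidHom k (Subgroup.mem_map_of_mem _ hx)
      exact this
    -- the orbits of `M`
    let R : Setoid X :=
      { r := fun x y => ∃ l ∈ M, act l x = y
        iseqv :=
          { refl := fun x => ⟨1, M.one_mem, by simp⟩
            symm := fun {x y} ⟨l, hl, e⟩ => ⟨l⁻¹, M.inv_mem hl, by rw [← e]; simp⟩
            trans := fun {x y z} ⟨l, hl, e⟩ ⟨l', hl', e'⟩ => ⟨l' * l, M.mul_mem hl' hl, by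
              rw [map_mul, Equiv.Perm.mul_apply, e, e']⟩ } }
    have hactR : ∀ (q : Q) {x y : X}, R.r x y → R.r (act q x) (act q y) := fun q {x y} ⟨l, hl, e⟩ =>
      ⟨q * l * q⁻¹, hMn.conj_mem l hl q, by rw [← e]; simp⟩
    have hopR : ∀ (t : A) {x y : X}, R.r x y → R.r (op t x) (op t y) := fun t {x y} ⟨l, hl, e⟩ =>
      ⟨a t l, hMa t l hl, by rw [← hc.comm, e]⟩
    let actY : Q →* Equiv.Perm (Quotient R) :=
      { toFun := fun q =>
          { toFun := Quotient.map (act q) fun _ _ => hactR q
            invFun := Quotient.map (act q⁻¹) fun _ _ => hactR q⁻¹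
            left_inv := fun z => Quotient.inductionOn z fun x =>
              congrArg (Quotient.mk R) (show act q⁻¹ (act q x) = x by simp)
            right_inv := fun z => Quotient.inductionOn z fun x =>
              congrArg (Quotient.mk R) (show act q (act q⁻¹ x) = x by simp) }
        map_one' := Equiv.ext fun z => Quotient.inductionOn z fun x =>
          congrArg (Quotient.mk R) (show act 1 x = x by simp)
        map_mul' := fun q r => Equiv.ext fun z =>
          Quotient.inductionOn z fun x =>
            congrArg (Quotient.mk R) (show act (q * r) x = act q (act r x) by simp) }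
    let opY : A →* Equiv.Perm (Quotient R) :=
      { toFun := fun q =>
          { toFun := Quotient.map (op q) fun _ _ => hopR q
            invFun := Quotient.map (op q⁻¹) fun _ _ => hopR q⁻¹
            left_inv := fun z => Quotient.inductionOn z fun x =>
              congrArg (Quotient.mk R) (show op q⁻¹ (op q x) = x by simp)
            right_inv := fun z => Quotient.inductionOn z fun x =>
              congrArg (Quotient.mk R) (show op q (op q⁻¹ x) = x by simp) }
        map_one' := Equiv.ext fun z => Quotient.inductionOn z fun x =>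
          congrArg (Quotient.mk R) (show op 1 x = x by simp)
        map_mul' := fun q r => Equiv.ext fun z =>
          Quotient.inductionOn z fun x =>
            congrArg (Quotient.mk R) (show op (q * r) x = op q (op r x) by simp) }
    let actQ : Q ⧸ M →* Equiv.Perm (Quotient R) := QuotientGroup.lift M actY fun l hl =>
      MonoidHom.mem_ker.2 (Equiv.ext fun z => Quotient.inductionOn z fun x =>
        (Quotient.sound ⟨l, hl, rfl⟩ : (Quotient.mk R x) = Quotient.mk R (act l x)).symm)
    have hMeq : ∀ t : A, M.map (a t).toMonoidHom = M := fun t => by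
      refine le_antisymm (Subgroup.map_le_iff_le_comap.2 fun x hx => hMa t x hx) fun x hx => ?_
      exact ⟨a t⁻¹ x, hMa t⁻¹ x hx, by simp⟩
    let aQ : A →* MulAut (Q ⧸ M) :=
      { toFun := fun t => QuotientGroup.congr M M (a t) (hMeq t)
        map_one' := MulEquiv.ext fun q => QuotientGroup.induction_on q fun x =>
          congrArg QuotientGroup.mk (show a 1 x = x by simp)
        map_mul' := fun s t => MulEquiv.ext fun q => QuotientGroup.induction_on q fun x =>
          congrArg QuotientGroup.mk (show a (s * t) x = a s (a t x) by simp) }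
    have hcY : Compat aQ actQ opY := by
      refine ⟨fun t q z => ?_, fun z z' => ?_⟩
      · obtain ⟨q, rfl⟩ := QuotientGroup.mk_surjective q
        exact Quotient.inductionOn z fun x => congrArg (Quotient.mk R) (hc.comm t q x)
      · refine Quotient.inductionOn₂ z z' fun x y => ?_
        obtain ⟨q, hq⟩ := hc.trans x y
        exact ⟨(q : Q ⧸ M), congrArg (Quotient.mk R) hq⟩
    have hlt : Nat.card (Q ⧸ M) < n := by
      rw [← hn, ← Subgroup.index_eq_card]
      refine lt_of_le_of_ne (Nat.le_of_dvd Nat.card_pos (Subgroup.index_dvd_card M))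
        fun e => hk.1 ?_
      have h1 := Subgroup.card_mul_index M
      rw [e] at h1
      exact Subgroup.eq_bot_of_card_eq M ((mul_eq_right₀ Nat.card_pos.ne').1 h1)
    obtain ⟨x₀⟩ := hX
    obtain ⟨z, hz⟩ := ih _ hlt aQ actQ opY hcY rfl inferInstance
      (hcop.coprime_dvd_left (Subgroup.card_quotient_dvd_card M)) ⟨Quotient.mk R x₀⟩
    obtain ⟨y₀, rfl⟩ := Quotient.mk_surjective z
    let Y := {x : X // R.r y₀ x}
    letI : CommGroup M :=
      { (inferInstance : Group M) with mul_comm := fun x y => Subtype.ext (hMc x x.2 y y.2) }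
    have hYact : ∀ (l : M) (x : X), R.r y₀ x ↔ R.r y₀ (act l x) := fun l x =>
      ⟨fun h => R.iseqv.trans h ⟨l, l.2, rfl⟩,
        fun h => R.iseqv.trans h (R.iseqv.symm ⟨l, l.2, rfl⟩)⟩
    have hYop : ∀ (t : A) (x : X), R.r y₀ x ↔ R.r y₀ (op t x) := fun t x => by
      have h1 : R.r (op t y₀) y₀ := Quotient.exact (hz t)
      refine ⟨fun h => R.iseqv.trans (R.iseqv.symm h1) (hopR t h), fun h => ?_⟩
      have h2 := hopR t⁻¹ (R.iseqv.trans h1 h)
      simpa using h2
    let act₂ : M →* Equiv.Perm Y :=
      { toFun := fun l => (act l).subtypeEquiv (hYact l)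
        map_one' := Equiv.ext fun x => Subtype.ext (by simp)
        map_mul' := fun q r => Equiv.ext fun x => Subtype.ext (by simp) }
    let op₂ : A →* Equiv.Perm Y :=
      { toFun := fun t => (op t).subtypeEquiv (hYop t)
        map_one' := Equiv.ext fun x => Subtype.ext (by simp)
        map_mul' := fun q r => Equiv.ext fun x => Subtype.ext (by simp) }
    let α : A →* MulAut M :=
      { toFun := fun t => ((a t).subgroupMap M).trans (MulEquiv.subgroupCongr (hMeq t))
        map_one' := MulEquiv.ext fun n => Subtype.ext (show a 1 (n : Q) = n by simp)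
        map_mul' := fun s t => MulEquiv.ext fun n =>
          Subtype.ext (show a (s * t) (n : Q) = a s (a t n) by simp) }
    obtain ⟨y, hy⟩ := exists_fixed_of_abelian α act₂ op₂
      (fun t l x => Subtype.ext (hc.comm t l x.1))
      (fun x y => by
        obtain ⟨l, hl, e⟩ := R.iseqv.trans (R.iseqv.symm x.2) y.2
        exact ⟨⟨l, hl⟩, Subtype.ext e⟩)
      ⟨y₀, R.iseqv.refl y₀⟩ (m := Nat.card M) (fun l => pow_card_eq_one')
      (hcop.coprime_dvd_left (Subgroup.card_subgroup_dvd_card M)).symm
    exact ⟨y.1, fun t => congrArg Subtype.val (hy t)⟩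

end Cfsg.Agent.Char.Glauberman
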