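import Mathlib
import Cfsg.Agent.Char.Glauberman.FixedPoint
import Cfsg.Agent.Char.Glauberman.Above

/-!
# Invariant constituents below and above, operators coprime to the index
-/

namespace Cfsg.Agent.Char.Glauberman

open scoped ComplexConjugate

universe u v

variable {G : Type u} [Group G] [Fintype G] {A : Type v} [Group A] [Finite A]

section Quot

variable (a : A →* MulAut G) (N : Subgroup G) [N.Normal] (h : ∀ (t : A), ∀ n ∈ N, a t n ∈ N)

omit [Fintype G] [Finite A] in
include h in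
theorem map_eq (t : A) : N.map (a t).toMonoidHom = N :=
  le_antisymm (Subgroup.map_le_iff_le_comap.2 fun x hx => h t x hx)
    fun x hx => ⟨a t⁻¹ x, h t⁻¹ x hx, by simp⟩

/-- Operators on the quotient. -/
def quotOp : A →* MulAut (G ⧸ N) where
  toFun t := QuotientGroup.congr N N (a t) (map_eq a N h t)
  map_one' := MulEquiv.ext fun q => QuotientGroup.induction_on q fun x =>
    congrArg QuotientGroup.mk (show a 1 x = x by simp)
  map_mul' s t := MulEquiv.ext fun q => QuotientGroup.induction_on q fun x =>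
    congrArg QuotientGroup.mk (show a (s * t) x = a s (a t x) by simp)

omit [Fintype G] [Finite A] in
theorem quotOp_mk (t : A) (g : G) : quotOp a N h t (g : G ⧸ N) = ((a t g : G) : G ⧸ N) := rfl

end Quot

variable (a : A →* MulAut G)

/-- An invariant character has an invariant constituent on an invariant normal subgroup. -/
theorem exists_inv_constituent (N : Subgroup G) [N.Normal] [Fintype N]
    (h : ∀ (t : A), ∀ n ∈ N, a t n ∈ N) (hcop : N.index.Coprime (Nat.card A))
    (hsolv : Group.IsSolvable A ∨ Group.IsSolvable (G ⧸ N)) (χ : IrrCharacter G)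
    (hχ : InvFun a (χ : G → ℂ)) :
    ∃ θ : IrrCharacter N, mult N χ θ ≠ 0 ∧ InvFun (restrictOp a N h) (θ : N → ℂ) := by
  classical
  let X := {η : IrrCharacter N // classInner (fun n : N => (χ : G → ℂ) n) (η : N → ℂ) ≠ 0}
  have hstab : ∀ (g : G) (η : IrrCharacter N),
      classInner (fun n : N => (χ : G → ℂ) n) (η : N → ℂ) ≠ 0 →
      classInner (fun n : N => (χ : G → ℂ) n) (conjFun g (η : N → ℂ)) ≠ 0 := by
    intro g η hη
    rw [← conjFun_res g (isClassFunction_of_isIrr χ.2), classInner_conjFun]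
    exact hη
  let cj : G → X → X := fun g η =>
    ⟨⟨conjFun g⁻¹ (η.1 : N → ℂ), isIrr_conjFun g⁻¹ η.1.2⟩, hstab g⁻¹ η.1 η.2⟩
  have cj_val : ∀ g η, ((cj g η).1 : N → ℂ) = conjFun g⁻¹ (η.1 : N → ℂ) := fun _ _ => rfl
  have hext : ∀ {η η' : X}, (η.1 : N → ℂ) = η'.1 → η = η' :=
    fun e => Subtype.ext (Subtype.ext e)
  let act : G →* Equiv.Perm X :=
    { toFun := fun g =>
        { toFun := cj g, invFun := cj g⁻¹
          left_inv := fun η => hext (by
            rw [cj_val, cj_val, conjFun_conjFun, inv_inv, inv_mul_cancel, conjFun_one])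
          right_inv := fun η => hext (by
            rw [cj_val, cj_val, conjFun_conjFun, inv_inv, mul_inv_cancel, conjFun_one]) }
      map_one' := Equiv.ext fun η => hext (show conjFun (1 : G)⁻¹ _ = _ by rw [inv_one, conjFun_one]; rfl)
      map_mul' := fun g g' => Equiv.ext fun η => hext (by
        show conjFun (g * g')⁻¹ (η.1 : N → ℂ) = conjFun g⁻¹ (conjFun g'⁻¹ (η.1 : N → ℂ))
        rw [conjFun_conjFun, mul_inv_rev]) }
  let actQ : G ⧸ N →* Equiv.Perm X := QuotientGroup.lift N act fun n hn =>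
    MonoidHom.mem_ker.2 (Equiv.ext fun η => hext
      (conjFun_of_mem (N.inv_mem hn) (isClassFunction_of_isIrr η.1.2)))
  set aN := restrictOp a N h
  have hopmem : ∀ (t : A) (η : IrrCharacter N),
      classInner (fun n : N => (χ : G → ℂ) n) (η : N → ℂ) ≠ 0 →
      classInner (fun n : N => (χ : G → ℂ) n) (precomp (aN t) η : N → ℂ) ≠ 0 := by
    intro t η hη
    have h1 := mult_precomp N (a t) (aN t) (fun n => (restrictOp_apply a N h t n).symm) χ η
    rw [show precomp (a t) χ = χ from Subtype.ext (funext fun g => hχ t g)] at h1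
    rw [mult_spec] at hη ⊢
    rw [h1]
    exact hη
  let pc : A → X → X := fun t η => ⟨precomp (aN t⁻¹) η.1, hopmem t⁻¹ η.1 η.2⟩
  let op : A →* Equiv.Perm X :=
    { toFun := fun t =>
        { toFun := pc t, invFun := pc t⁻¹
          left_inv := fun η => hext (funext fun n => by simp [pc])
          right_inv := fun η => hext (funext fun n => by simp [pc]) }
      map_one' := Equiv.ext fun η => hext (funext fun n => by simp [pc])
      map_mul' := fun s t => Equiv.ext fun η => hext (funext fun n => by simp [pc]) }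
  have hc : Compat (quotOp a N h) actQ op := by
    refine ⟨fun t q η => ?_, fun η η' => ?_⟩
    · obtain ⟨g, rfl⟩ := QuotientGroup.mk_surjective q
      refine hext (funext fun n => ?_)
      show (η.1 : N → ℂ) ⟨g⁻¹ * ((aN t⁻¹ n : N) : G) * g⁻¹⁻¹, _⟩ =
        (η.1 : N → ℂ) (aN t⁻¹ ⟨(a t g)⁻¹ * (n : G) * (a t g)⁻¹⁻¹, _⟩)
      refine congrArg _ (Subtype.ext ?_)
      show g⁻¹ * a t⁻¹ (n : G) * g⁻¹⁻¹ = a t⁻¹ ((a t g)⁻¹ * (n : G) * (a t g)⁻¹⁻¹)
      simp
    · obtain ⟨g, hg⟩ := mem_orbit.1 (constituent_mem_orbit χ.2 η.1.2 η'.1.2 η.2 η'.2)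
      refine ⟨((g⁻¹ : G) : G ⧸ N), hext ?_⟩
      show conjFun g⁻¹⁻¹ (η.1 : N → ℂ) = _
      rw [inv_inv, hg]
  obtain ⟨η₀, hη₀⟩ := exists_constituent_res (N := N) χ.2
  have hcard : (Nat.card (G ⧸ N)).Coprime (Nat.card A) := by rwa [← Subgroup.index_eq_card]
  obtain ⟨η, hη⟩ : ∃ η : X, ∀ t : A, op t η = η := by
    rcases hsolv with hs | hs
    · exact glauberman_solvable_ops _ _ _ _ hc rfl hs hcard ⟨⟨η₀, hη₀⟩⟩
    · exact glauberman_solvable_group _ _ _ _ hc rfl hs hcard ⟨⟨η₀, hη₀⟩⟩
  refine ⟨η.1, fun e => η.2 (by rw [mult_spec, e, Nat.cast_zero]), fun t n => ?_⟩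
  have h1 := congrArg (fun z : X => (z.1 : N → ℂ) n) (hη t⁻¹)
  have h2 : (η.1 : N → ℂ) (aN t⁻¹⁻¹ n) = (η.1 : N → ℂ) n := h1
  rwa [inv_inv] at h2

omit [Finite A] in
/-- Linear characters of an abelian quotient act transitively on the characters over a given one. -/
theorem exists_linear_twist (N : Subgroup G) [N.Normal] [Fintype N]
    (hab : ∀ x y : G, x * y * x⁻¹ * y⁻¹ ∈ N) (θ : IrrCharacter N) (ψ ψ' : IrrCharacter G)
    (h1 : mult N ψ θ ≠ 0) (h2 : mult N ψ' θ ≠ 0) :
    ∃ l : G ⧸ N →* ℂˣ, ∀ g : G, (ψ' : G → ℂ) g = (l (g : G ⧸ N) : ℂ) * (ψ : G → ℂ) g := by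
  classical
  let one : N → ℂ := fun _ => 1
  let P := indFun N one
  have hP : IsCharacter G P := isCharacter_indFun N isCharacter_one
  have hprod : indFun N (one * fun n : N => (ψ : G → ℂ) n) = P * (ψ : G → ℂ) :=
    indFun_mul_res N one (isClassFunction_of_isIrr ψ.2)
  have hone : (one * fun n : N => (ψ : G → ℂ) n) = fun n : N => (ψ : G → ℂ) n :=
    funext fun n => one_mul _
  have hne : classInner (P * (ψ : G → ℂ)) (ψ' : G → ℂ) ≠ 0 := by
    rw [← hprod, hone, classInner_indFun_left N _ (isClassFunction_of_isIrr ψ'.2), classInner,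
      sum_mul_conj, ← mul_assoc, inv_mul_cancel₀ card_ne_zero, one_mul]
    simp only [← Nat.cast_mul, ← Nat.cast_sum, Nat.cast_ne_zero]
    intro e
    exact mul_ne_zero h1 h2 (Finset.sum_eq_zero_iff.1 e θ (Finset.mem_univ θ))
  obtain ⟨β, hβ, hβne⟩ : ∃ β : IrrCharacter G, classInner P (β : G → ℂ) ≠ 0 ∧
      classInner ((β : G → ℂ) * (ψ : G → ℂ)) (ψ' : G → ℂ) ≠ 0 := by
    by_contra! hall
    apply hne
    rw [classFun_expansion (isClassFunction_of_isCharacter hP), Finset.sum_mul, classInner_sum_left]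
    refine Finset.sum_eq_zero fun β _ => ?_
    rw [smul_mul_assoc, classInner_smul_left]
    by_cases h0 : classInner P (β : G → ℂ) = 0
    · rw [h0, zero_mul]
    · rw [hall β h0, mul_zero]
  have hPN : ∀ n ∈ N, P n = P 1 := by
    intro n hn
    simp only [P, indFun_apply]
    congr 1
    refine Finset.sum_congr rfl fun x _ => ?_
    have hx : x⁻¹ * n * x ∈ N := by simpa using ‹N.Normal›.conj_mem n hn x⁻¹
    have hx1 : x⁻¹ * 1 * x ∈ N := by simp
    rw [extendByZero_of_mem N _ hx, extendByZero_of_mem N _ hx1]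
  obtain ⟨φ, hφ, hφe⟩ := IsIrr.exists_quotient N β.2 fun n hn =>
    IsChar.constituent_kernel hP β.2 hβ (hPN n hn)
  have hcomm : ∀ x y : G ⧸ N, x * y = y * x := by
    intro x y
    obtain ⟨x, rfl⟩ := QuotientGroup.mk_surjective x
    obtain ⟨y, rfl⟩ := QuotientGroup.mk_surjective y
    rw [← mul_inv_eq_one, ← QuotientGroup.mk_mul, ← QuotientGroup.mk_mul, ← QuotientGroup.mk_inv,
      ← QuotientGroup.mk_mul, QuotientGroup.eq_one_iff, mul_inv_rev, ← mul_assoc]
    exact hab x y
  obtain ⟨l, hl⟩ := IsChar.exists_hom (IsIrr.isCharacter hφ) (IsIrr.degree_one_of_comm hφ hcomm)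
  have hval : ∀ g : G, (β : G → ℂ) g = (l (g : G ⧸ N) : ℂ) := fun g => by rw [hφe, hl]
  have hirr : IsIrrCharacter G ((β : G → ℂ) * (ψ : G → ℂ)) := by
    rw [isIrr_iff_norm_one (isCharacter_mul (IsIrr.isCharacter β.2) (IsIrr.isCharacter ψ.2)),
      ← classInner_irr_self ψ.2]
    simp only [classInner, Pi.mul_apply, map_mul]
    congr 1
    refine Finset.sum_congr rfl fun g _ => ?_
    have h3 : (β : G → ℂ) g * conj ((β : G → ℂ) g) = 1 := by
      rw [← IsChar.inv_eq_conj (IsIrr.isCharacter β.2), hval, hval, ← Units.val_mul, ← map_mul,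
        QuotientGroup.mk_inv, mul_inv_cancel, map_one, Units.val_one]
    linear_combination ((ψ : G → ℂ) g * conj ((ψ : G → ℂ) g)) * h3
  refine ⟨l, fun g => ?_⟩
  by_contra hg
  exact hβne (classInner_irr_ne hirr ψ'.2 fun e => hg (by rw [← e, Pi.mul_apply, hval]))

/-- The abelian step. -/
theorem exists_inv_over_abelian (N : Subgroup G) [N.Normal] [Fintype N]
    (h : ∀ (t : A), ∀ n ∈ N, a t n ∈ N) (hab : ∀ x y : G, x * y * x⁻¹ * y⁻¹ ∈ N)
    (hcop : N.index.Coprime (Nat.card A)) (θ : IrrCharacter N)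
    (hθ : InvFun (restrictOp a N h) (θ : N → ℂ)) :
    ∃ χ : IrrCharacter G, InvFun a (χ : G → ℂ) ∧ mult N χ θ ≠ 0 := by
  classical
  let X := {ψ : IrrCharacter G // mult N ψ θ ≠ 0}
  have hop : ∀ (t : A) (ψ : IrrCharacter G), mult N ψ θ ≠ 0 → mult N (precomp (a t) ψ) θ ≠ 0 := by
    intro t ψ hψ
    have h1 := mult_precomp N (a t) (restrictOp a N h t)
      (fun n => (restrictOp_apply a N h t n).symm) ψ θ
    rw [show precomp (restrictOp a N h t) θ = θ from Subtype.ext (funext fun g => hθ t g)] at h1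
    rw [h1]; exact hψ
  have htw : ∀ (l : G ⧸ N →* ℂˣ) (ψ : X), ∃ ψ' : X,
      (ψ'.1 : G → ℂ) = fun g : G => (l (g : G ⧸ N) : ℂ) * (ψ.1 : G → ℂ) g := by
    intro l ψ
    have hirr : IsIrrCharacter G (fun g : G => (l (g : G ⧸ N) : ℂ) * (ψ.1 : G → ℂ) g) := by
      have hl := isCharacter_comp (QuotientGroup.mk' N) (isCharacter_hom l)
      rw [isIrr_iff_norm_one (χ := fun g : G => (l (g : G ⧸ N) : ℂ) * (ψ.1 : G → ℂ) g)
        (isCharacter_mul hl (IsIrr.isCharacter ψ.1.2)), ← classInner_irr_self ψ.1.2]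
      simp only [classInner, map_mul]
      congr 1
      refine Finset.sum_congr rfl fun g _ => ?_
      have h3 : (l (g : G ⧸ N) : ℂ) * conj (l (g : G ⧸ N) : ℂ) = 1 := by
        rw [← IsChar.inv_eq_conj (isCharacter_hom l), ← Units.val_mul, ← map_mul, mul_inv_cancel,
          map_one, Units.val_one]
      linear_combination ((ψ.1 : G → ℂ) g * conj ((ψ.1 : G → ℂ) g)) * h3
    refine ⟨⟨⟨_, hirr⟩, fun e => ψ.2 ?_⟩, rfl⟩
    have h1 := mult_spec N (⟨_, hirr⟩ : IrrCharacter G) θ
    have h2 : (fun n : N => ((⟨_, hirr⟩ : IrrCharacter G) : G → ℂ) n) =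
        fun n : N => (ψ.1 : G → ℂ) n := funext fun n => by
      show (l ((n : G) : G ⧸ N) : ℂ) * _ = _
      rw [(QuotientGroup.eq_one_iff (n : G)).2 n.2, map_one, Units.val_one, one_mul]
    rw [h2, mult_spec, e] at h1
    exact_mod_cast h1
  choose tw htw using htw
  have hext : ∀ {η η' : X}, (η.1 : G → ℂ) = η'.1 → η = η' := fun e => Subtype.ext (Subtype.ext e)
  let act : (G ⧸ N →* ℂˣ) →* Equiv.Perm X :=
    { toFun := fun l =>
        { toFun := tw l, invFun := tw l⁻¹
          left_inv := fun η => hext (funext fun g => by rw [htw, htw]; simp)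
          right_inv := fun η => hext (funext fun g => by rw [htw, htw]; simp) }
      map_one' := Equiv.ext fun η => hext (funext fun g => by
        show (tw 1 η).1.1 g = (η.1 : G → ℂ) g
        rw [htw]; simp)
      map_mul' := fun l l' => Equiv.ext fun η => hext (funext fun g => by
        show (tw (l * l') η).1.1 g = (tw l (tw l' η)).1.1 g
        rw [htw, htw, htw]; simp [mul_assoc]) }
  let pc : A → X → X := fun t η => ⟨precomp (a t⁻¹) η.1, hop t⁻¹ η.1 η.2⟩
  let op : A →* Equiv.Perm X :=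
    { toFun := fun t =>
        { toFun := pc t, invFun := pc t⁻¹
          left_inv := fun η => hext (funext fun n => by simp [pc])
          right_inv := fun η => hext (funext fun n => by simp [pc]) }
      map_one' := Equiv.ext fun η => hext (funext fun n => by simp [pc])
      map_mul' := fun s t => Equiv.ext fun η => hext (funext fun n => by simp [pc]) }
  let α : A →* MulAut (G ⧸ N →* ℂˣ) :=
    { toFun := fun t =>
        { toFun := fun l => l.comp (quotOp a N h t⁻¹).toMonoidHom
          invFun := fun l => l.comp (quotOp a N h t).toMonoidHom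
          left_inv := fun l => MonoidHom.ext fun q => by simp
          right_inv := fun l => MonoidHom.ext fun q => by simp
          map_mul' := fun l l' => MonoidHom.ext fun q => rfl }
      map_one' := MulEquiv.ext fun l => MonoidHom.ext fun q => by simp
      map_mul' := fun s t => MulEquiv.ext fun l => MonoidHom.ext fun q => by simp }
  have hind : indFun N (θ : N → ℂ) ≠ 0 := fun e => by
    have h1 := congrFun e 1
    rw [indFun_apply_one, Pi.zero_apply] at h1
    exact mul_ne_zero (Nat.cast_ne_zero.2 Subgroup.index_ne_zero_of_finite)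
      (IsIrr.one_ne_zero θ.2) h1
  obtain ⟨ψ₀, hψ₀⟩ := IsChar.exists_constituent
    (isCharacter_indFun N (IsIrr.isCharacter θ.2)) hind
  have hψ₀' : mult N ψ₀ θ ≠ 0 := fun e => hψ₀ (by
    rw [classInner_indFun_left N _ (isClassFunction_of_isIrr ψ₀.2), ← classInner_conj_symm,
      mult_spec, e, Nat.cast_zero, map_zero])
  obtain ⟨x, hx⟩ := exists_fixed_of_abelian α act op
    (fun t l η => hext (funext fun g => by
      show (tw l η).1.1 (a t⁻¹ g) = (tw (α t l) (pc t η)).1.1 g
      rw [htw, htw]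
      rfl))
    (fun x y => by
      obtain ⟨l, hl⟩ := exists_linear_twist N hab θ x.1 y.1 x.2 y.2
      exact ⟨l, hext (funext fun g => by
        show (tw l x).1.1 g = _
        rw [htw]; exact (hl g).symm)⟩)
    ⟨ψ₀, hψ₀'⟩ (m := N.index)
    (fun l => MonoidHom.ext fun q => by
      rw [MonoidHom.pow_apply, ← map_pow, Subgroup.index_eq_card, pow_card_eq_one', map_one]; rfl)
    hcop.symm
  refine ⟨x.1, fun t g => ?_, x.2⟩
  have h1 := congrArg (fun z : X => (z.1 : G → ℂ) g) (hx t⁻¹)
  have h2 : (x.1 : G → ℂ) (a t⁻¹⁻¹ g) = (x.1 : G → ℂ) g := h1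
  rwa [inv_inv] at h2

end Cfsg.Agent.Char.Glauberman
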