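import Mathlib
import Cfsg.Agent.Char.Glauberman.Equivariant

/-!
# Invariant characters above, solvable quotient, arbitrary coprime operators
-/

namespace Cfsg.Agent.Char.Glauberman

open scoped ComplexConjugate commutatorElement

universe u v

theorem mult_trans {G : Type u} [Group G] [Fintype G] (N M : Subgroup G) [Fintype N] [Fintype M]
    [Fintype (N.subgroupOf M)] (hNM : N ≤ M) (χ : IrrCharacter G) (ψ : IrrCharacter M)
    (θ : IrrCharacter N) (h1 : mult M χ ψ ≠ 0)
    (h2 : mult (N.subgroupOf M) ψ (irrEquiv (Subgroup.subgroupOfEquivOfLe hNM) θ) ≠ 0) :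
    mult N χ θ ≠ 0 := by
  classical
  set e := Subgroup.subgroupOfEquivOfLe hNM
  set θ' := irrEquiv e θ
  have h3 : classInner (fun n : N.subgroupOf M => (χ : G → ℂ) ((n : M) : G)) (θ' : N.subgroupOf M → ℂ) =
      ((∑ ψ' : IrrCharacter M, mult M χ ψ' * mult (N.subgroupOf M) ψ' θ' : ℕ) : ℂ) := by
    have hf : (fun n : N.subgroupOf M => (χ : G → ℂ) ((n : M) : G)) =
        ∑ ψ' : IrrCharacter M, (mult M χ ψ' : ℂ) • fun n : N.subgroupOf M => (ψ' : M → ℂ) n := by
      funext n
      rw [Finset.sum_apply, res_eq_sum M χ (n : M)]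
      rfl
    simp only [hf, classInner_sum_left, classInner_smul_left, mult_spec, Nat.cast_sum, Nat.cast_mul]
  have h4 : classInner (fun n : N.subgroupOf M => (χ : G → ℂ) ((n : M) : G)) (θ' : N.subgroupOf M → ℂ) =
      (mult N χ θ : ℂ) := by
    rw [← mult_spec, classInner, classInner, Nat.card_congr e.toEquiv]
    exact congrArg _ (Fintype.sum_equiv e.toEquiv _ _ fun k => rfl)
  rw [h4] at h3
  have h5 : mult N χ θ = ∑ ψ' : IrrCharacter M, mult M χ ψ' * mult (N.subgroupOf M) ψ' θ' := by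
    exact_mod_cast h3
  rw [h5]
  intro e0
  exact mul_ne_zero h1 h2 (Finset.sum_eq_zero_iff.1 e0 ψ (Finset.mem_univ ψ))

theorem exists_inv_over : ∀ (n : ℕ) {G : Type u} [Group G] [Fintype G] {A : Type v} [Group A]
    [Finite A] (a : A →* MulAut G) (N : Subgroup G) [N.Normal] [Fintype N]
    (h : ∀ (t : A), ∀ x ∈ N, a t x ∈ N) (θ : IrrCharacter N), N.index = n →
    N.index.Coprime (Nat.card A) → Group.IsSolvable (G ⧸ N) →
    InvFun (restrictOp a N h) (θ : N → ℂ) →
    ∃ χ : IrrCharacter G, InvFun a (χ : G → ℂ) ∧ mult N χ θ ≠ 0 := by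
  intro n
  induction n using Nat.strong_induction_on with
  | _ n ih =>
    intro G _ _ A _ _ a N _ _ h θ hn hcop hsol hθ
    classical
    by_cases hN : N = ⊤
    · subst hN
      let e : G ≃* (⊤ : Subgroup G) := Subgroup.topEquiv.symm
      refine ⟨irrEquiv e θ, fun t g => hθ t ⟨g, Subgroup.mem_top g⟩, ?_⟩
      intro e0
      have h1 := mult_spec (⊤ : Subgroup G) (irrEquiv e θ) θ
      have h2 : (fun g : (⊤ : Subgroup G) => (irrEquiv e θ : G → ℂ) g) = (θ : (⊤ : Subgroup G) → ℂ) :=
        rfl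
      rw [h2, classInner_irr_self θ.2, e0, Nat.cast_zero] at h1
      exact one_ne_zero h1
    have hnt : Nontrivial (G ⧸ N) := by
      rw [← Finite.one_lt_card_iff_nontrivial, ← Subgroup.index_eq_card]
      exact Subgroup.one_lt_index_of_ne_top hN
    obtain ⟨k, hk⟩ : ∃ k, derivedSeries (G ⧸ N) k ≠ ⊥ ∧ derivedSeries (G ⧸ N) (k + 1) = ⊥ := by
      obtain ⟨m, hm⟩ := hsol.solvable
      induction m with
      | zero => exact absurd (derivedSeries_zero (G ⧸ N) ▸ hm) top_ne_bot
      | succ m ihm =>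
        by_cases h0 : derivedSeries (G ⧸ N) m = ⊥
        · exact ihm h0
        · exact ⟨m, h0, hm⟩
    set D := derivedSeries (G ⧸ N) k with hD
    have hDn : D.Normal := derivedSeries_normal _ k
    let M : Subgroup G := D.comap (QuotientGroup.mk' N)
    have hMn : M.Normal := hDn.comap _
    have : Fintype M := Fintype.ofFinite _
    have : Fintype (N.subgroupOf M) := Fintype.ofFinite _
    have hNM : N ≤ M := fun x hx => by
      show (x : G ⧸ N) ∈ D
      rw [(QuotientGroup.eq_one_iff x).2 hx]; exact D.one_mem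
    have hM : ∀ (t : A), ∀ x ∈ M, a t x ∈ M := fun t x hx =>
      map_derivedSeries_le_derivedSeries (quotOp a N h t).toMonoidHom k
        ⟨(x : G ⧸ N), hx, rfl⟩
    have hab : ∀ x y : M, x * y * x⁻¹ * y⁻¹ ∈ N.subgroupOf M := by
      intro x y
      have h1 : ⁅((x : G) : G ⧸ N), ((y : G) : G ⧸ N)⁆ ∈ derivedSeries (G ⧸ N) (k + 1) := by
        rw [derivedSeries_succ]; exact Subgroup.commutator_mem_commutator x.2 y.2
      rw [hk.2, Subgroup.mem_bot, commutatorElement_def, ← QuotientGroup.mk_inv,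
        ← QuotientGroup.mk_inv, ← QuotientGroup.mk_mul, ← QuotientGroup.mk_mul,
        ← QuotientGroup.mk_mul, QuotientGroup.eq_one_iff] at h1
      exact Subgroup.mem_subgroupOf.2 h1
    set aM := restrictOp a M hM
    have h' : ∀ (t : A), ∀ x ∈ N.subgroupOf M, aM t x ∈ N.subgroupOf M := fun t x hx =>
      Subgroup.mem_subgroupOf.2 (h t _ (Subgroup.mem_subgroupOf.1 hx))
    let θ' := irrEquiv (Subgroup.subgroupOfEquivOfLe hNM) θ
    have hθ' : InvFun (restrictOp aM (N.subgroupOf M) h') (θ' : N.subgroupOf M → ℂ) :=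
      fun t g => hθ t ⟨((g : M) : G), g.2⟩
    obtain ⟨ψ, hψ, hψθ⟩ := exists_inv_over_abelian aM (N.subgroupOf M) h' hab
      (hcop.coprime_dvd_left (Subgroup.relIndex_dvd_index_of_le hNM)) θ' hθ'
    have hlt : M.index < n := by
      have h1 : M.index = D.index :=
        Subgroup.index_comap_of_surjective _ (QuotientGroup.mk'_surjective N)
      rw [h1, ← hn, Subgroup.index_eq_card N]
      refine lt_of_le_of_ne (Nat.le_of_dvd Nat.card_pos (Subgroup.index_dvd_card D))
        fun e => hk.1 ?_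
      have h2 := Subgroup.card_mul_index D
      rw [e] at h2
      exact Subgroup.eq_bot_of_card_eq D ((mul_eq_right₀ Nat.card_pos.ne').1 h2)
    have hsM : Group.IsSolvable (G ⧸ M) :=
      Group.isSolvable_of_surjective (f := QuotientGroup.map N M (MonoidHom.id G) hNM)
        fun q => QuotientGroup.induction_on q fun x => ⟨(x : G ⧸ N), rfl⟩
    obtain ⟨χ, hχ, hχψ⟩ := ih M.index hlt a M hM ψ rfl
      (hcop.coprime_dvd_left (Subgroup.index_dvd_of_le hNM)) hsM hψ
    exact ⟨χ, hχ, mult_trans N M hNM χ ψ θ hχψ hψθ⟩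

end Cfsg.Agent.Char.Glauberman
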