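import Mathlib
import Cfsg.Agent.Char.Glauberman.AboveSolvable
import Cfsg.Agent.Char.Gallagher
import Cfsg.Agent.ProjExt.Data
import Cfsg.Agent.ProjExt.Criteria

/-!
# Invariant characters above an invariant character for coprime sections
-/

namespace Cfsg.Agent.Char.Glauberman

open scoped ComplexConjugate
open Cfsg.Agent.ProjExt

universe u

/-- Schur's lemma for a central element. -/
theorem mul_central {H : Type u} [Group H] [Finite H] {β : H → ℂ} (hβ : IsIrrCharacter H β)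
    (z : H) (hz : ∀ x : H, z * x = x * z) (g : H) : β 1 * β (g * z) = β z * β g := by
  obtain ⟨d, ρ, hρ, rfl⟩ := hβ
  obtain ⟨c, hc, hc'⟩ := commute_eq_scalar ρ hρ (ρ z) fun a => by rw [← map_mul, ← map_mul, hz a]
  show ρ.character 1 * LinearMap.trace ℂ _ (ρ (g * z)) = LinearMap.trace ℂ _ (ρ z) * ρ.character g
  rw [ρ.char_one, ← hc', map_mul, hc, mul_smul_comm, map_smul, smul_eq_mul,
    ← Module.End.one_eq_id, mul_one, Representation.character]
  ring

/-- Coprime operators and a central extension: an invariant character above a given one. -/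
theorem exists_inv_over_central {H : Type u} [Group H] [Fintype H] {K : Type u} [Group K] [Finite K]
    (a : K →* MulAut H) (Z : Subgroup H) [Z.Normal] [Fintype Z] (h : ∀ (t : K), ∀ z ∈ Z, a t z ∈ Z)
    (ω : IrrCharacter Z) (hω : InvFun (restrictOp a Z h) (ω : Z → ℂ))
    (hcard : (Nat.card H).Coprime (Nat.card K)) (hs : Group.IsSolvable K ∨ Group.IsSolvable (H ⧸ Z)) :
    ∃ χ : IrrCharacter H, InvFun a (χ : H → ℂ) ∧ mult Z χ ω ≠ 0 := by
  rcases hs with hs | hs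
  · exact exists_above_aux _ a Z h ω rfl hs hcard hω
  · exact exists_inv_over _ a Z h ω rfl
      (hcard.coprime_dvd_left (Subgroup.index_dvd_card Z)) hs hω

theorem exists_normalized {Γ : Type u} [Group Γ] [Finite Γ] {G N : Subgroup Γ} [N.Normal]
    {f : Γ → Γ → ℂˣ} (hf : IsCocycle N f) :
    ∃ γ : Γ → ℂˣ, (∀ n ∈ N, γ n = 1) ∧ ∀ g ∈ G, ∀ k ∈ G,
      (f g k * (γ g)⁻¹ * (γ k)⁻¹ * γ (g * k)) ^ (N.relIndex G) = 1 := by
  classical
  let fG : G → G → ℂˣ := fun g k => f g k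
  have hfG : IsCocycle (N.subgroupOf G) fG :=
    ⟨fun x y z => hf.assoc x y z, fun n hn g => hf.left_one _ hn _, fun g n hn => hf.right_one _ _ hn⟩
  obtain ⟨β, hβ1, hβ⟩ := hfG.index_mem_splitExp
  have hpos : 0 < N.relIndex G := Nat.pos_of_ne_zero Subgroup.index_ne_zero_of_finite
  have hroot : ∀ g : Γ, ∃ r : ℂˣ, (∀ hg : g ∈ G, r ^ N.relIndex G = β ⟨g, hg⟩) ∧ (g ∈ N → r = 1) := by
    intro g
    by_cases hn : g ∈ N
    · refine ⟨1, fun hg => ?_, fun _ => rfl⟩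
      rw [one_pow, hβ1 ⟨g, hg⟩ (Subgroup.mem_subgroupOf.2 hn)]
    · by_cases hg : g ∈ G
      · obtain ⟨r, hr⟩ := exists_root (β ⟨g, hg⟩) _ hpos
        exact ⟨r, fun _ => hr, fun h => absurd h hn⟩
      · exact ⟨1, fun h => absurd h hg, fun _ => rfl⟩
  choose γ hγ hγN using hroot
  refine ⟨γ, hγN, fun g hg k hk => ?_⟩
  have h1 := hβ ⟨g, hg⟩ trivial ⟨k, hk⟩ trivial
  simp only [zpow_natCast] at h1
  have h2 : f g k ^ N.relIndex G = β ⟨g, hg⟩ * β ⟨k, hk⟩ * (β ⟨g * k, G.mul_mem hg hk⟩)⁻¹ := h1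
  rw [mul_pow, mul_pow, mul_pow, inv_pow, inv_pow, hγ g hg, hγ k hk, hγ _ (G.mul_mem hg hk), h2]
  simp [mul_comm, mul_left_comm, mul_assoc]

variable {Γ : Type u} [Group Γ] [Fintype Γ]

theorem exists_inv_constituent_above (G N : Subgroup Γ) [hG : G.Normal] [hN : N.Normal] [Fintype G]
    [Fintype N] (hNG : N ≤ G) (hcop : (G.index).Coprime (N.relIndex G))
    (hsolv : Group.IsSolvable (Γ ⧸ G) ∨ Group.IsSolvable (G ⧸ N.subgroupOf G)) (θ : IrrCharacter N)
    (hinv : ∀ (x : Γ) (n : N), (θ : N → ℂ) ⟨x * n * x⁻¹, hN.conj_mem n n.2 x⟩ = (θ : N → ℂ) n) :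
    ∃ χ : IrrCharacter G, classInner (fun n : N => (χ : G → ℂ) ⟨n, hNG n.2⟩) (θ : N → ℂ) ≠ 0 ∧
      ∀ (x : Γ) (g : G), (χ : G → ℂ) ⟨x * g * x⁻¹, hG.conj_mem g g.2 x⟩ = (χ : G → ℂ) g := by
  classical
  obtain ⟨D⟩ := exists_data θ.2 hinv
  obtain ⟨γ, hγN, hf'⟩ := exists_normalized (G := G) D.cocycle
  set n := N.relIndex G with hn
  have hn0 : n ≠ 0 := Subgroup.index_ne_zero_of_finite
  set m := n * n with hm
  let sc := scalarU D.d
  have hsc : ∀ (c : ℂˣ) (u : EndU D.d), u * sc c = sc c * u := fun c u => (scalarU_comm D.d c u).eq.symm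
  let Y : Γ → EndU D.d := fun g => sc (γ g)⁻¹ * D.X g
  let f' : Γ → Γ → ℂˣ := fun g k => D.f g k * (γ g)⁻¹ * (γ k)⁻¹ * γ (g * k)
  have hY : ∀ g k, Y g * Y k = sc (f' g k) * Y (g * k) := by
    intro g k
    show sc (γ g)⁻¹ * D.X g * (sc (γ k)⁻¹ * D.X k) = _
    rw [mul_assoc, ← mul_assoc (D.X g), hsc, mul_assoc, D.mul, ← mul_assoc, ← mul_assoc,
      ← map_mul, ← map_mul]
    show _ = sc (f' g k) * (sc (γ (g * k))⁻¹ * D.X (g * k))
    rw [← mul_assoc, ← map_mul]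
    congr 2
    show _ = D.f g k * (γ g)⁻¹ * (γ k)⁻¹ * γ (g * k) * (γ (g * k))⁻¹
    rw [mul_inv_cancel_right]
    ac_rfl
  have hYN : ∀ g ∈ N, Y g = D.X g := fun g hg => by
    show sc (γ g)⁻¹ * D.X g = _
    rw [hγN g hg, inv_one, map_one, one_mul]
  have hX1 : D.X 1 = 1 := Units.ext (by
    have h1 := D.X_coe 1
    rw [OneMemClass.coe_one, map_one] at h1
    exact h1)
  have hY1 : Y 1 = 1 := by rw [hYN 1 N.one_mem, hX1]
  have hXX : ∀ x g, D.X x * D.X g * (D.X x)⁻¹ =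
      sc (D.f x g * (D.f (x * g * x⁻¹) x)⁻¹) * D.X (x * g * x⁻¹) := by
    intro x g
    rw [mul_inv_eq_iff_eq_mul, D.mul, mul_assoc, D.mul, inv_mul_cancel_right, ← mul_assoc,
      ← map_mul, inv_mul_cancel_right]
  have hXN : ∀ x, ∀ g ∈ N, D.X x * D.X g * (D.X x)⁻¹ = D.X (x * g * x⁻¹) := fun x g hg => by
    rw [hXX, D.cocycle.right_one x g hg, D.cocycle.left_one _ (hN.conj_mem g hg x), inv_one,
      mul_one, map_one, one_mul]
  -- conjugation scalars
  have hlam : ∀ x g, ∃ l : ℂˣ, D.X x * Y g * (D.X x)⁻¹ = sc l * Y (x * g * x⁻¹) ∧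
      (g ∈ G → l ^ m = 1) := by
    intro x
    let l : Γ → ℂˣ := fun g =>
      (γ g)⁻¹ * (D.f x g * (D.f (x * g * x⁻¹) x)⁻¹) * γ (x * g * x⁻¹)
    have hl : ∀ g, D.X x * Y g * (D.X x)⁻¹ = sc (l g) * Y (x * g * x⁻¹) := by
      intro g
      show D.X x * (sc (γ g)⁻¹ * D.X g) * (D.X x)⁻¹ = _
      rw [← mul_assoc, hsc, mul_assoc, mul_assoc, ← mul_assoc (D.X x), hXX, ← mul_assoc, ← map_mul]
      show _ = sc (l g) * (sc (γ (x * g * x⁻¹))⁻¹ * D.X (x * g * x⁻¹))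
      rw [← mul_assoc (sc (l g)), ← map_mul]
      congr 2
      show _ = (γ g)⁻¹ * (D.f x g * (D.f (x * g * x⁻¹) x)⁻¹) * γ (x * g * x⁻¹) *
        (γ (x * g * x⁻¹))⁻¹
      rw [mul_inv_cancel_right]
    refine fun g => ⟨l g, hl g, fun hg => ?_⟩
    have hmul : ∀ g k, l g * l k * f' (x * g * x⁻¹) (x * k * x⁻¹) = f' g k * l (g * k) := by
      intro g k
      apply scalarU_injective D.d_pos
      have e1 : D.X x * (Y g * Y k) * (D.X x)⁻¹ =
          sc (l g * l k * f' (x * g * x⁻¹) (x * k * x⁻¹)) * Y (x * (g * k) * x⁻¹) := by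
        rw [show D.X x * (Y g * Y k) * (D.X x)⁻¹ =
          (D.X x * Y g * (D.X x)⁻¹) * (D.X x * Y k * (D.X x)⁻¹) by group, hl, hl, mul_assoc,
          ← mul_assoc (Y _) (sc _), hsc, mul_assoc (sc (l k)), hY, ← mul_assoc, ← mul_assoc,
          ← map_mul, ← map_mul,
          show x * g * x⁻¹ * (x * k * x⁻¹) = x * (g * k) * x⁻¹ by group]
      have e2 : D.X x * (Y g * Y k) * (D.X x)⁻¹ =
          sc (f' g k * l (g * k)) * Y (x * (g * k) * x⁻¹) := by
        rw [hY, ← mul_assoc, hsc, mul_assoc, mul_assoc, ← mul_assoc (D.X x), hl, ← mul_assoc,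
          ← map_mul]
      exact mul_right_cancel (e1.symm.trans e2)
    let L : G →* ℂˣ := MonoidHom.mk' (fun g => l g ^ n) fun g k => by
      have := congrArg (· ^ n) (hmul g k)
      simp only [mul_pow] at this
      rw [hf' g g.2 k k.2, hf' _ (hG.conj_mem g g.2 x) _ (hG.conj_mem k k.2 x), one_mul, mul_one]
        at this
      exact this.symm
    have hLN : N.subgroupOf G ≤ L.ker := by
      intro z hz
      have hz' : (z : Γ) ∈ N := hz
      show l z ^ n = 1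
      simp [l, hγN _ hz', hγN _ (hN.conj_mem _ hz' x), D.cocycle.right_one x _ hz',
        D.cocycle.left_one _ (hN.conj_mem _ hz' x)]
    have h1 : L ⟨g, hg⟩ ^ n = 1 := by
      rw [← map_pow, ← MonoidHom.mem_ker]
      apply hLN
      have h2 : ((⟨g, hg⟩ : G) : G ⧸ N.subgroupOf G) ^ n = 1 := by
        rw [hn, Subgroup.relIndex, Subgroup.index_eq_card]; exact pow_card_eq_one'
      rwa [← QuotientGroup.mk_pow, QuotientGroup.eq_one_iff] at h2
    rw [hm, pow_mul]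
    exact h1
  -- the extension of `G`
  have hinvY : ∀ g ∈ G, ∃ c : ℂˣ, c ^ m = 1 ∧ (Y g)⁻¹ = sc c * Y g⁻¹ := by
    intro g hg
    refine ⟨(f' g g⁻¹)⁻¹, by rw [inv_pow, hm, pow_mul, hf' g hg _ (G.inv_mem hg), one_pow, inv_one],
      inv_eq_of_mul_eq_one_right ?_⟩
    rw [← mul_assoc, hsc, mul_assoc, hY, mul_inv_cancel, hY1, mul_one, ← map_mul, inv_mul_cancel,
      map_one]
  let Et : Subgroup (Γ × EndU D.d) :=
    { carrier := {e | e.1 ∈ G ∧ ∃ c : ℂˣ, c ^ m = 1 ∧ e.2 = sc c * Y e.1}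
      one_mem' := ⟨G.one_mem, 1, one_pow _, by simp [hY1]⟩
      mul_mem' := by
        rintro ⟨g, u⟩ ⟨k, v⟩ ⟨hg, c, hc, hu⟩ ⟨hk, c', hc', hv⟩
        refine ⟨G.mul_mem hg hk, c * c' * f' g k, ?_, ?_⟩
        · rw [mul_pow, mul_pow, hc, hc', hm, pow_mul, hf' g hg k hk, one_pow, one_mul, one_mul]
        · show u * v = _
          rw [show u = sc c * Y g from hu, show v = sc c' * Y k from hv, mul_assoc,
            ← mul_assoc (Y g), hsc, mul_assoc, hY, ← mul_assoc, ← mul_assoc, ← map_mul, ← map_mul]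
          rfl
      inv_mem' := by
        rintro ⟨g, u⟩ ⟨hg, c, hc, hu⟩
        obtain ⟨d, hd, he⟩ := hinvY g hg
        refine ⟨G.inv_mem hg, d * c⁻¹, by rw [mul_pow, inv_pow, hd, hc, inv_one, mul_one], ?_⟩
        show u⁻¹ = _
        rw [show u = sc c * Y g from hu, mul_inv_rev, he, ← map_inv, mul_assoc, hsc, ← mul_assoc,
          ← map_mul]
        rfl }
  have memEt : ∀ {g : Γ} {u : EndU D.d}, (g, u) ∈ Et → g ∈ G := fun h => h.1
  have hconjEt : ∀ x, ∀ e ∈ Et, (x, D.X x) * e * (x, D.X x)⁻¹ ∈ Et := by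
    rintro x ⟨g, u⟩ ⟨hg, c, hc, hu⟩
    obtain ⟨l, hl, hlm⟩ := hlam x g
    refine ⟨hG.conj_mem g hg x, c * l, by rw [mul_pow, hc, hlm hg, one_mul], ?_⟩
    show D.X x * u * (D.X x)⁻¹ = _
    rw [show u = sc c * Y g from hu, ← mul_assoc, hsc, mul_assoc, mul_assoc,
      ← mul_assoc (D.X x), hl, ← mul_assoc, ← map_mul]
    rfl
  have : Finite Et := by
    have : NeZero m := ⟨mul_ne_zero hn0 hn0⟩
    refine Finite.of_surjective (α := G × rootsOfUnity m ℂ)
      (fun p => ⟨((p.1 : Γ), sc p.2 * Y p.1), p.1.2, p.2,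
        (mem_rootsOfUnity m _).1 p.2.2, rfl⟩) ?_
    rintro ⟨⟨g, u⟩, hg, c, hc, hu⟩
    exact ⟨(⟨g, hg⟩, ⟨c, (mem_rootsOfUnity m c).2 hc⟩), Subtype.ext (Prod.ext rfl hu.symm)⟩
  have : Fintype Et := Fintype.ofFinite _
  let c0 : Γ →* MulAut Et :=
    { toFun := fun x =>
        { toFun := fun e => ⟨(x, D.X x) * e * (x, D.X x)⁻¹, hconjEt x e e.2⟩
          invFun := fun e => ⟨(x, D.X x)⁻¹ * e * (x, D.X x), by
            have h1 := hconjEt x⁻¹ e e.2
            have h2 : (x⁻¹, D.X x⁻¹) * (e : Γ × EndU D.d) * (x⁻¹, D.X x⁻¹)⁻¹ =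
                (x, D.X x)⁻¹ * (e : Γ × EndU D.d) * (x, D.X x) := by
              have h3 := D.mul x⁻¹ x
              rw [inv_mul_cancel, hX1, mul_one] at h3
              have h4 : D.X x⁻¹ = scalarU D.d (D.f x⁻¹ x) * (D.X x)⁻¹ :=
                eq_mul_inv_iff_mul_eq.2 h3
              refine Prod.ext (by simp) ?_
              show D.X x⁻¹ * (e : Γ × EndU D.d).2 * (D.X x⁻¹)⁻¹ =
                (D.X x)⁻¹ * (e : Γ × EndU D.d).2 * D.X x
              rw [h4]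
              show sc (D.f x⁻¹ x) * (D.X x)⁻¹ * _ * (sc (D.f x⁻¹ x) * (D.X x)⁻¹)⁻¹ = _
              calc _ = sc (D.f x⁻¹ x) * ((D.X x)⁻¹ * (e : Γ × EndU D.d).2 * D.X x) *
                    (sc (D.f x⁻¹ x))⁻¹ := by group
                _ = _ := by rw [← hsc, mul_inv_cancel_right]
            rwa [h2] at h1⟩
          left_inv := fun e => Subtype.ext (by group)
          right_inv := fun e => Subtype.ext (by group)
          map_mul' := fun e e' => Subtype.ext (by push_cast; group) }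
      map_one' := MulEquiv.ext fun e => Subtype.ext (by
        show ((1 : Γ), D.X 1) * (e : Γ × EndU D.d) * ((1 : Γ), D.X 1)⁻¹ = _
        rw [hX1, show ((1 : Γ), (1 : EndU D.d)) = 1 from rfl, one_mul, inv_one, mul_one]
        rfl)
      map_mul' := fun x y => MulEquiv.ext fun e => Subtype.ext (by
        show (x * y, D.X (x * y)) * (e : Γ × EndU D.d) * (x * y, D.X (x * y))⁻¹ =
          (x, D.X x) * ((y, D.X y) * (e : Γ × EndU D.d) * (y, D.X y)⁻¹) * (x, D.X x)⁻¹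
        refine Prod.ext (by simp [mul_assoc]) ?_
        show D.X (x * y) * (e : Γ × EndU D.d).2 * (D.X (x * y))⁻¹ =
          D.X x * (D.X y * (e : Γ × EndU D.d).2 * (D.X y)⁻¹) * (D.X x)⁻¹
        rw [show D.X x * (D.X y * (e : Γ × EndU D.d).2 * (D.X y)⁻¹) * (D.X x)⁻¹ =
          D.X x * D.X y * (e : Γ × EndU D.d).2 * (D.X x * D.X y)⁻¹ by group, D.mul]
        calc D.X (x * y) * (e : Γ × EndU D.d).2 * (D.X (x * y))⁻¹
            = scalarU D.d (D.f x y) * (D.X (x * y) * (e : Γ × EndU D.d).2 * (D.X (x * y))⁻¹) *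
              (scalarU D.d (D.f x y))⁻¹ := by rw [← hsc, mul_inv_cancel_right]
          _ = _ := by group) }
  -- the image of `N`
  let iN : N →* Et := MonoidHom.mk'
    (fun z => ⟨((z : Γ), D.X z), hNG z.2, 1, one_pow _, by simp [hYN (z : Γ) z.2]⟩)
    fun z w => Subtype.ext (Prod.ext rfl (by
      show D.X ((z : Γ) * w) = D.X z * D.X w
      rw [D.mul, D.cocycle.left_one _ z.2, map_one, one_mul]))
  let Nt : Subgroup Et := iN.range
  have : Fintype Nt := Fintype.ofFinite _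
  have hiN : ∀ (x : Γ) (z : N), c0 x (iN z) = iN ⟨x * z * x⁻¹, hN.conj_mem z z.2 x⟩ := fun x z =>
    Subtype.ext (Prod.ext rfl (hXN x z z.2))
  have hc0inner : ∀ (e e' : Et), c0 (e : Γ × EndU D.d).1 e' = e * e' * e⁻¹ := by
    rintro ⟨⟨g, u⟩, hg, c, hc, hu⟩ e'
    refine Subtype.ext (Prod.ext rfl ?_)
    show D.X g * (e' : Γ × EndU D.d).2 * (D.X g)⁻¹ = u * (e' : Γ × EndU D.d).2 * u⁻¹
    have hu' : u = sc (c * (γ g)⁻¹) * D.X g := by rw [map_mul, mul_assoc]; exact hu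
    rw [hu']
    calc D.X g * (e' : Γ × EndU D.d).2 * (D.X g)⁻¹
        = sc (c * (γ g)⁻¹) * (D.X g * (e' : Γ × EndU D.d).2 * (D.X g)⁻¹) *
          (sc (c * (γ g)⁻¹))⁻¹ := by rw [← hsc, mul_inv_cancel_right]
      _ = _ := by group
  have hNt : Nt.Normal := ⟨by
    rintro _ ⟨z, rfl⟩ e
    exact ⟨_, ((hc0inner e (iN z)).symm.trans (hiN _ z)).symm⟩⟩
  have hNtinv : ∀ (x : Γ), ∀ e ∈ Nt, c0 x e ∈ Nt := by
    rintro x _ ⟨z, rfl⟩
    exact ⟨_, (hiN x z).symm⟩
  let cE : Γ →* MulAut (Et ⧸ Nt) := quotOp c0 Nt hNtinv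
  have hcEN : N ≤ cE.ker := fun z hz => MonoidHom.mem_ker.2 (MulEquiv.ext fun q =>
    QuotientGroup.induction_on q fun e => by
      show ((c0 z e : Et) : Et ⧸ Nt) = (e : Et ⧸ Nt)
      have h1 : c0 z e = iN ⟨z, hz⟩ * e * (iN ⟨z, hz⟩)⁻¹ := hc0inner (iN ⟨z, hz⟩) e
      rw [h1, QuotientGroup.eq]
      have h2 : (iN ⟨z, hz⟩ * e * (iN ⟨z, hz⟩)⁻¹)⁻¹ * e =
          iN ⟨z, hz⟩ * (e⁻¹ * (iN ⟨z, hz⟩)⁻¹ * e⁻¹⁻¹) := by group
      rw [h2]
      exact Nt.mul_mem ⟨_, rfl⟩ (hNt.conj_mem _ (Nt.inv_mem ⟨_, rfl⟩) e⁻¹))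
  let cQ : Γ ⧸ N →* MulAut (Et ⧸ Nt) := QuotientGroup.lift N cE hcEN
  -- complement
  have hGbar : (G.map (QuotientGroup.mk' N)).Normal := hG.map _ (QuotientGroup.mk'_surjective N)
  have hidx : (G.map (QuotientGroup.mk' N)).index = G.index :=
    Subgroup.index_map_eq G (QuotientGroup.mk'_surjective N) (by rwa [QuotientGroup.ker_mk'])
  have hcardG : Nat.card (G.map (QuotientGroup.mk' N)) = n := by
    have h1 := Subgroup.card_mul_index (G.map (QuotientGroup.mk' N))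
    rw [hidx, ← Subgroup.index_eq_card, ← Subgroup.relIndex_mul_index hNG] at h1
    exact Nat.eq_of_mul_eq_mul_right (Nat.pos_of_ne_zero Subgroup.index_ne_zero_of_finite) h1
  obtain ⟨K, hK⟩ := Subgroup.exists_right_complement'_of_coprime (N := G.map (QuotientGroup.mk' N))
    (by rw [hidx, hcardG]; exact hcop.symm)
  have hKcard : Nat.card K = G.index := by
    have h1 := hK.card_mul
    rw [← Subgroup.card_mul_index (G.map (QuotientGroup.mk' N)), hidx] at h1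
    exact Nat.eq_of_mul_eq_mul_left Nat.card_pos h1
  let aK : K →* MulAut (Et ⧸ Nt) := cQ.comp K.subtype
  -- the scalars
  have : NeZero m := ⟨mul_ne_zero hn0 hn0⟩
  let iZ : rootsOfUnity m ℂ →* Et ⧸ Nt := (QuotientGroup.mk' Nt).comp (MonoidHom.mk'
    (fun c => (⟨((1 : Γ), sc c), G.one_mem, c, (mem_rootsOfUnity m _).1 c.2, by simp [hY1]⟩ : Et))
    fun c d => Subtype.ext (Prod.ext (by simp) (map_mul sc _ _)))
  have hiZ : Function.Injective iZ := by
    rw [injective_iff_map_eq_one]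
    intro c hc
    obtain ⟨z, hz⟩ := (QuotientGroup.eq_one_iff _).1 hc
    have h1 := congrArg (fun e : Et => (e : Γ × EndU D.d)) hz
    have hz1 : (z : Γ) = 1 := congrArg Prod.fst h1
    have h2 : D.X z = sc c := congrArg Prod.snd h1
    rw [hz1, hX1, ← map_one sc] at h2
    exact Subtype.ext (scalarU_injective D.d_pos h2).symm
  let Z : Subgroup (Et ⧸ Nt) := iZ.range
  have : Fintype Z := Fintype.ofFinite _
  have : Fintype (Et ⧸ Nt) := Fintype.ofFinite _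
  have hcent : ∀ (c : rootsOfUnity m ℂ) (q : Et ⧸ Nt), iZ c * q = q * iZ c := fun c q =>
    QuotientGroup.induction_on q fun e => congrArg QuotientGroup.mk (Subtype.ext (Prod.ext
      (show (1 : Γ) * _ = _ * 1 by simp) (hsc _ _).symm))
  have hZn : Z.Normal := ⟨by
    rintro _ ⟨c, rfl⟩ q
    exact ⟨c, by rw [← hcent, mul_inv_cancel_right]⟩⟩
  have hZfix : ∀ (t : K) (c : rootsOfUnity m ℂ), aK t (iZ c) = iZ c := by
    intro t c
    obtain ⟨x, hx⟩ := QuotientGroup.mk_surjective (t : Γ ⧸ N)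
    show cQ (t : Γ ⧸ N) (iZ c) = iZ c
    rw [← hx]
    refine congrArg QuotientGroup.mk (Subtype.ext (Prod.ext ?_ ?_))
    · show x * 1 * x⁻¹ = 1
      simp
    · show D.X x * sc c * (D.X x)⁻¹ = sc c
      rw [hsc, mul_inv_cancel_right]
  have hZinv : ∀ (t : K), ∀ z ∈ Z, aK t z ∈ Z := by
    rintro t _ ⟨c, rfl⟩
    exact ⟨c, (hZfix t c).symm⟩
  let eZ : rootsOfUnity m ℂ ≃* Z := MonoidHom.ofInjective hiZ
  let w : Z →* ℂˣ := ((rootsOfUnity m ℂ).subtype.comp eZ.symm.toMonoidHom)⁻¹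
  let ω : IrrCharacter Z := ⟨fun z => (w z : ℂ), isIrrCharacter_hom w⟩
  have hω : InvFun (restrictOp aK Z hZinv) (ω : Z → ℂ) := by
    rintro t ⟨_, c, rfl⟩
    exact congrArg (fun z : Z => (w z : ℂ)) (Subtype.ext (hZfix t c))
  -- orders
  let pr : Et ⧸ Nt →* G ⧸ N.subgroupOf G :=
    QuotientGroup.lift Nt
      (MonoidHom.mk' (fun e : Et => ((⟨(e : Γ × EndU D.d).1, e.2.1⟩ : G) : G ⧸ N.subgroupOf G))
        fun e e' => rfl) (by
      rintro _ ⟨z, rfl⟩
      exact MonoidHom.mem_ker.2 ((QuotientGroup.eq_one_iff _).2 (Subgroup.mem_subgroupOf.2 z.2)))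
  have hprsurj : Function.Surjective pr := fun q => QuotientGroup.induction_on q fun g =>
    ⟨((⟨((g : Γ), Y g), g.2, 1, one_pow _, by simp⟩ : Et) : Et ⧸ Nt), rfl⟩
  have hker : pr.ker = Z := by
    apply le_antisymm
    · intro q
      refine QuotientGroup.induction_on q fun e he => ?_
      obtain ⟨⟨g, u⟩, hg, c, hc, hu⟩ := e
      have hgN : g ∈ N := Subgroup.mem_subgroupOf.1 ((QuotientGroup.eq_one_iff _).1
        (MonoidHom.mem_ker.1 he))
      refine ⟨⟨c, (mem_rootsOfUnity m c).2 hc⟩, QuotientGroup.eq.2 ⟨⟨g, hgN⟩, ?_⟩⟩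
      refine Subtype.ext (Prod.ext ?_ ?_)
      · show g = (1 : Γ)⁻¹ * g
        simp
      · show D.X g = (sc c)⁻¹ * u
        rw [show u = sc c * Y g from hu, inv_mul_cancel_left, hYN g hgN]
    · rintro _ ⟨c, rfl⟩
      exact MonoidHom.mem_ker.2 rfl
  have hidxZ : Z.index = n := by
    rw [← hker, Subgroup.index_ker, MonoidHom.range_eq_top.2 hprsurj, Subgroup.card_top,
      ← Subgroup.index_eq_card]
    rfl
  have hcopE : (Nat.card (Et ⧸ Nt)).Coprime (Nat.card K) := by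
    have h1 : Nat.card Z ∣ m := by
      rw [← Nat.card_congr eZ.toEquiv, Complex.card_rootsOfUnity]
    rw [hKcard, ← Subgroup.card_mul_index Z, hidxZ]
    exact Nat.Coprime.mul_left ((hcop.symm.mul_left hcop.symm).coprime_dvd_left h1) hcop.symm
  have hs : Group.IsSolvable K ∨ Group.IsSolvable ((Et ⧸ Nt) ⧸ Z) := by
    rcases hsolv with hs | hs
    · left
      let φ : K →* Γ ⧸ G := (QuotientGroup.map N G (MonoidHom.id Γ) hNG).comp K.subtype
      refine Group.isSolvable_of_isSolvable_injective (f := φ) ((injective_iff_map_eq_one _).2 fun t ht => ?_)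
      obtain ⟨x, hx⟩ := QuotientGroup.mk_surjective (t : Γ ⧸ N)
      have hxG : x ∈ G := by
        have : QuotientGroup.map N G (MonoidHom.id Γ) hNG (x : Γ ⧸ N) = 1 := by rw [hx]; exact ht
        exact (QuotientGroup.eq_one_iff x).1 this
      have h1 : (t : Γ ⧸ N) ∈ G.map (QuotientGroup.mk' N) ⊓ K := ⟨⟨x, hxG, hx⟩, t.2⟩
      rw [disjoint_iff.1 hK.disjoint, Subgroup.mem_bot] at h1
      exact Subtype.ext h1
    · right
      exact Group.isSolvable_of_isSolvable_injective (f := ((QuotientGroup.quotientKerEquivOfSurjective pr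
        hprsurj).toMonoidHom.comp (QuotientGroup.quotientMulEquivOfEq hker.symm).toMonoidHom))
        ((QuotientGroup.quotientKerEquivOfSurjective pr hprsurj).injective.comp
          (QuotientGroup.quotientMulEquivOfEq hker.symm).injective)
  obtain ⟨β, hβinv, hβω⟩ := exists_inv_over_central aK Z hZinv ω hω hcopE hs
  have hβc := IsIrr.isCharacter β.2
  -- the central character of `β`
  have hβz : ∀ (c : rootsOfUnity m ℂ) (q : Et ⧸ Nt),
      (β : Et ⧸ Nt → ℂ) (q * iZ c) = (((c : ℂˣ)⁻¹ : ℂˣ) : ℂ) * (β : Et ⧸ Nt → ℂ) q := by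
    intro c q
    have horb : orbit (ω : Z → ℂ) = {(ω : Z → ℂ)} :=
      Finset.eq_singleton_iff_unique_mem.2 ⟨self_mem_orbit _, fun η hη => by
        obtain ⟨x, rfl⟩ := mem_orbit.1 hη
        funext z
        obtain ⟨_, d, rfl⟩ := z
        rw [conjFun_apply]
        exact congrArg (ω : Z → ℂ) (Subtype.ext (show x * iZ d * x⁻¹ = iZ d by
          rw [← hcent, mul_inv_cancel_right]))⟩
    have hres : ∀ z : Z, (β : Et ⧸ Nt → ℂ) z = (mult Z β ω : ℂ) * (w z : ℂ) := fun z => by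
      have := congrFun (clifford β.2 ω.2 (by rw [mult_spec]; exact_mod_cast hβω)) z
      rwa [horb, Finset.sum_singleton, mult_spec] at this
    have hwc : w (eZ c) = ((c : ℂˣ))⁻¹ := by simp [w]
    have h1 : (β : Et ⧸ Nt → ℂ) (iZ c) = (mult Z β ω : ℂ) * (((c : ℂˣ)⁻¹ : ℂˣ) : ℂ) := by
      rw [← hwc]; exact hres (eZ c)
    have h2 : (β : Et ⧸ Nt → ℂ) 1 = (mult Z β ω : ℂ) := by
      have := hres 1
      rwa [OneMemClass.coe_one, map_one, Units.val_one, mul_one] at this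
    have h3 := mul_central β.2 (iZ c) (hcent c) q
    rw [h1, h2, mul_assoc] at h3
    exact mul_left_cancel₀ (by exact_mod_cast hβω) h3
  -- the tensor product
  let τ : Representation ℂ Et (Fin D.d → ℂ) :=
    (Units.coeHom _).comp ((MonoidHom.snd Γ (EndU D.d)).comp Et.subtype)
  have hτc : IsCharacter Et τ.character := ⟨D.d, τ, rfl⟩
  have hτiN : ∀ z : N, τ.character (iN z) = (θ : N → ℂ) z := fun z => by
    show LinearMap.trace ℂ _ (D.X z : Module.End ℂ (Fin D.d → ℂ)) = _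
    rw [D.X_coe]
    exact congrFun D.char_eq z
  have hiNinj : Function.Injective iN := fun z z' e =>
    Subtype.ext (congrArg (fun e : Et => (e : Γ × EndU D.d).1) e)
  let eN : N ≃* Nt := MonoidHom.ofInjective hiNinj
  have hθt : IsIrrCharacter Nt (fun z : Nt => τ.character (z : Et)) := by
    rw [← isIrrCharacter_comp_equiv eN]
    have h1 : (fun z : N => τ.character ((eN z : Nt) : Et)) = (θ : N → ℂ) := funext hτiN
    rw [h1]
    exact θ.2
  have hτi : IsIrrCharacter Et τ.character := ProjExt.isIrr_of_res hτc hθt fun _ => rfl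
  have hΦ : IsIrrCharacter Et ((fun e : Et => (β : Et ⧸ Nt → ℂ) (e : Et ⧸ Nt)) * τ.character) :=
    isIrr_mul_of_res_irr Nt hτi hθt (isIrrCharacter_mk Nt β.2) fun z hz => by
      rw [(QuotientGroup.eq_one_iff z).2 hz]; rfl
  let q0 : Et →* G := MonoidHom.mk' (fun e => ⟨(e : Γ × EndU D.d).1, e.2.1⟩) fun _ _ => rfl
  have hq0 : Function.Surjective q0 := fun g =>
    ⟨⟨((g : Γ), Y g), g.2, 1, one_pow _, by simp⟩, rfl⟩
  have hker0 : ∀ e ∈ q0.ker, ((fun e : Et => (β : Et ⧸ Nt → ℂ) (e : Et ⧸ Nt)) * τ.character) e =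
      ((fun e : Et => (β : Et ⧸ Nt → ℂ) (e : Et ⧸ Nt)) * τ.character) 1 := by
    rintro ⟨⟨g, u⟩, hg, c, hc, hu⟩ he
    have hg1 : g = 1 := congrArg Subtype.val (MonoidHom.mem_ker.1 he)
    subst hg1
    have hu' : u = sc c := by rw [show u = sc c * Y 1 from hu, hY1, mul_one]
    simp only [Pi.mul_apply]
    have hb : (β : Et ⧸ Nt → ℂ) ((⟨((1 : Γ), u), hg, c, hc, hu⟩ : Et) : Et ⧸ Nt) =
        ((c⁻¹ : ℂˣ) : ℂ) * (β : Et ⧸ Nt → ℂ) 1 := by
      rw [← hβz ⟨c, (mem_rootsOfUnity m c).2 hc⟩ 1, one_mul]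
      exact congrArg (β : Et ⧸ Nt → ℂ) (congrArg QuotientGroup.mk (Subtype.ext (Prod.ext rfl hu')))
    have ht : τ.character (⟨((1 : Γ), u), hg, c, hc, hu⟩ : Et) = (c : ℂ) * τ.character 1 := by
      show LinearMap.trace ℂ _ (u : Module.End ℂ (Fin D.d → ℂ)) = _
      rw [hu', τ.char_one]
      show LinearMap.trace ℂ _ (scalarU D.d c : Module.End ℂ (Fin D.d → ℂ)) = _
      rw [scalarU_val, Algebra.algebraMap_eq_smul_one, map_smul, LinearMap.trace_one, smul_eq_mul]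
    rw [hb, ht, QuotientGroup.mk_one, mul_mul_mul_comm, ← Units.val_mul, inv_mul_cancel,
      Units.val_one, one_mul]
  obtain ⟨φ, hφ, hφe⟩ := IsIrr.exists_quotient q0.ker hΦ hker0
  let e0 := QuotientGroup.quotientKerEquivOfSurjective q0 hq0
  let χ : IrrCharacter G :=
    ⟨fun g => φ (e0.symm g), (isIrrCharacter_comp_equiv e0.symm).2 hφ⟩
  have hχ : ∀ e : Et, (χ : G → ℂ) (q0 e) =
      (β : Et ⧸ Nt → ℂ) (e : Et ⧸ Nt) * τ.character e := fun e => by
    show φ (e0.symm (q0 e)) = _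
    rw [show e0.symm (q0 e) = (e : Et ⧸ q0.ker) from e0.symm_apply_eq.2 rfl, ← hφe e]
    rfl
  refine ⟨χ, ?_, fun x g => ?_⟩
  · have hres : (fun z : N => (χ : G → ℂ) ⟨z, hNG z.2⟩) =
        (β : Et ⧸ Nt → ℂ) 1 • (θ : N → ℂ) := by
      funext z
      show (χ : G → ℂ) (q0 (iN z)) = _
      rw [hχ, hτiN, (QuotientGroup.eq_one_iff (iN z)).2 (MonoidHom.mem_range.2 ⟨z, rfl⟩)]
      rfl
    rw [hres, classInner_smul_left, classInner_irr_self θ.2, mul_one]
    exact IsIrr.one_ne_zero β.2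
  · -- invariance: first under elements over `K`
    have hKinv : ∀ (x : Γ), (x : Γ ⧸ N) ∈ K → ∀ g : G,
        (χ : G → ℂ) ⟨x * g * x⁻¹, hG.conj_mem g g.2 x⟩ = (χ : G → ℂ) g := by
      intro x hx g
      obtain ⟨e, rfl⟩ := hq0 g
      have h1 : (⟨x * (q0 e : Γ) * x⁻¹, hG.conj_mem _ (q0 e).2 x⟩ : G) = q0 (c0 x e) := rfl
      rw [h1, hχ, hχ]
      congr 1
      · exact hβinv ⟨_, hx⟩ (e : Et ⧸ Nt)
      · show LinearMap.trace ℂ _
          ((D.X x * (e : Γ × EndU D.d).2 * (D.X x)⁻¹ : EndU D.d) : Module.End ℂ (Fin D.d → ℂ)) =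
          LinearMap.trace ℂ _ ((e : Γ × EndU D.d).2 : Module.End ℂ (Fin D.d → ℂ))
        rw [Units.val_mul, LinearMap.trace_mul_comm, ← Units.val_mul, inv_mul_cancel_left]
    obtain ⟨g', hg', k, hk, hgk⟩ := Subgroup.mem_sup_of_normal_left.1
      (hK.sup_eq_top.symm ▸ Subgroup.mem_top (x : Γ ⧸ N) :
        (x : Γ ⧸ N) ∈ G.map (QuotientGroup.mk' N) ⊔ K)
    obtain ⟨y, hy, rfl⟩ := hg'
    have hk' : ((y⁻¹ * x : Γ) : Γ ⧸ N) ∈ K := by
      have : ((y⁻¹ * x : Γ) : Γ ⧸ N) = k := by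
        rw [QuotientGroup.mk_mul, ← hgk, QuotientGroup.mk_inv]
        exact inv_mul_cancel_left _ _
      rwa [this]
    rw [← hKinv _ hk' g, ← isClassFunction_of_isIrr χ.2
      ⟨y⁻¹ * x * g * (y⁻¹ * x)⁻¹, hG.conj_mem g g.2 _⟩ ⟨y, hy⟩]
    exact congrArg _ (Subtype.ext (by simp [mul_assoc]))

end Cfsg.Agent.Char.Glauberman
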