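import Mathlib
import Cfsg.Agent.Char.Glauberman.Bridge

/-!
# The correspondence in the ambient group
-/

namespace Cfsg.Agent.Char.Glauberman

open scoped ComplexConjugate

universe u v

variable {G : Type u} [Group G] [Fintype G] {A : Type v} [Group A] {p : ℕ} [hp : Fact p.Prime]
  {a : A →* MulAut G} [Fintype (Fixed a)]

/-- The four properties of the correspondence. -/
def IsCorr (p : ℕ) [Fact p.Prime] (a : A →* MulAut G) [Fintype (Fixed a)] : Prop :=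
  (∀ χ : IrrCharacter G, InvFun a (χ : G → ℂ) →
    (∃! β : IrrCharacter (Fixed a), vec (p := p) a χ β ≠ 0) ∧
      ∀ β, vec (p := p) a χ β ≠ 0 → vec (p := p) a χ β = 1 ∨ vec (p := p) a χ β = -1) ∧
  (∀ χ χ' : IrrCharacter G, InvFun a (χ : G → ℂ) → InvFun a (χ' : G → ℂ) →
    ∀ β, vec (p := p) a χ β ≠ 0 → vec (p := p) a χ' β ≠ 0 → χ = χ') ∧
  ∀ β : IrrCharacter (Fixed a), ∃ χ : IrrCharacter G, InvFun a (χ : G → ℂ) ∧ vec (p := p) a χ β ≠ 0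

theorem isCorr_of_coprime (hA : IsPGroup p A) (hcop : ¬ p ∣ Nat.card G) : IsCorr p a :=
  ⟨fun _ hχ => ⟨existsUnique_vec hA hcop hχ, fun _ h => vec_eq_pm hA hcop hχ h⟩,
    fun _ _ hχ hχ' _ h h' => eq_of_vec_ne_zero hA hcop hχ hχ' h h',
    fun β => exists_vec_ne_zero hA hcop β⟩

theorem isCorr_of_trivial (h : ∀ g : G, g ∈ Fixed a) : IsCorr p a := by
  classical
  let e : Fixed a ≃* G :=
    { toFun := fun g => g, invFun := fun g => ⟨g, h g⟩, left_inv := fun _ => rfl,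
      right_inv := fun _ => rfl, map_mul' := fun _ _ => rfl }
  have hinv : ∀ χ : IrrCharacter G, InvFun a (χ : G → ℂ) := fun χ t g => by rw [h g t]
  have hv : ∀ (χ : IrrCharacter G) β, vec (p := p) a χ β = if irrEquiv e χ = β then 1 else 0 := by
    intro χ β
    have h1 : classInner (fun g : Fixed a => (χ : G → ℂ) g) (β : Fixed a → ℂ) =
        if irrEquiv e χ = β then 1 else 0 := classInner_irrChar (irrEquiv e χ) β
    rw [mult_spec] at h1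
    split_ifs with h2 <;> simp only [h2, if_true, if_false] at h1
    · rw [vec, show mult (Fixed a) χ β = 1 by exact_mod_cast h1, Nat.cast_one]
    · rw [vec, show mult (Fixed a) χ β = 0 by exact_mod_cast h1, Nat.cast_zero]
  refine ⟨fun χ _ => ⟨⟨irrEquiv e χ, by simp [hv], fun β hβ => ?_⟩, fun β hβ => ?_⟩,
    fun χ χ' _ _ β hβ hβ' => ?_, fun β => ⟨(irrEquiv e).symm β, hinv _, by simp [hv]⟩⟩
  · by_contra hne
    exact hβ (by rw [hv, if_neg (Ne.symm hne)])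
  · by_cases he : irrEquiv e χ = β
    · exact Or.inl (by rw [hv, if_pos he])
    · exact absurd (by rw [hv, if_neg he]) hβ
  · refine (irrEquiv e).injective ?_
    by_contra hne
    rcases eq_or_ne (irrEquiv e χ) β with he | he
    · exact hβ' (by rw [hv, if_neg fun e' => hne (he.trans e'.symm)])
    · exact hβ (by rw [hv, if_neg he])

variable {Γ : Type u} [Group Γ]

theorem correspondence [Fintype Γ] (G S : Subgroup Γ) [Fintype G] (hnorm : ∀ s ∈ S, ∀ g ∈ G, s * g * s⁻¹ ∈ G)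
    (p : ℕ) [Fact p.Prime] (hS : IsPGroup p S)
    (hSG : ¬ p ∣ Nat.card G ∨ ∀ g : G, g ∈ Fixed (conjOp hnorm))
    (C : Subgroup Γ) [Fintype C] (hC : C = G ⊓ Subgroup.centralizer (S : Set Γ)) (hCG : C ≤ G) :
    (∀ χ : IrrCharacter G, (∀ s ∈ S, ∀ g g' : G, (g' : Γ) = s * g * s⁻¹ → (χ : G → ℂ) g' = (χ : G → ℂ) g) → ∃! β : IrrCharacter C, ∃ m : ℕ, classInner (fun c : C => (χ : G → ℂ) ⟨c, hCG c.2⟩) (β : C → ℂ) = (m : ℂ) ∧ ¬ p ∣ m) ∧
    (∀ χ : IrrCharacter G, (∀ s ∈ S, ∀ g g' : G, (g' : Γ) = s * g * s⁻¹ → (χ : G → ℂ) g' = (χ : G → ℂ) g) → ∀ β : IrrCharacter C, ∀ m : ℕ, classInner (fun c : C => (χ : G → ℂ) ⟨c, hCG c.2⟩) (β : C → ℂ) = (m : ℂ) → ¬ p ∣ m → ((m : ℤ) ≡ 1 [ZMOD p] ∨ (m : ℤ) ≡ -1 [ZMOD p])) ∧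
    (∀ χ χ' : IrrCharacter G, (∀ s ∈ S, ∀ g g' : G, (g' : Γ) = s * g * s⁻¹ → (χ : G → ℂ) g' = (χ : G → ℂ) g) → (∀ s ∈ S, ∀ g g' : G, (g' : Γ) = s * g * s⁻¹ → (χ' : G → ℂ) g' = (χ' : G → ℂ) g) → ∀ β : IrrCharacter C, ∀ m m' : ℕ, classInner (fun c : C => (χ : G → ℂ) ⟨c, hCG c.2⟩) (β : C → ℂ) = (m : ℂ) → ¬ p ∣ m → classInner (fun c : C => (χ' : G → ℂ) ⟨c, hCG c.2⟩) (β : C → ℂ) = (m' : ℂ) → ¬ p ∣ m' → χ = χ') ∧
    (∀ β : IrrCharacter C, ∃ χ : IrrCharacter G, (∀ s ∈ S, ∀ g g' : G, (g' : Γ) = s * g * s⁻¹ → (χ : G → ℂ) g' = (χ : G → ℂ) g) ∧ ∃ m : ℕ, classInner (fun c : C => (χ : G → ℂ) ⟨c, hCG c.2⟩) (β : C → ℂ) = (m : ℂ) ∧ ¬ p ∣ m) := by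
  classical
  have : Fintype (Fixed (conjOp hnorm)) := Fintype.ofFinite _
  obtain ⟨h1, h2, h3⟩ : IsCorr p (conjOp hnorm) :=
    hSG.elim (fun h => isCorr_of_coprime hS h) isCorr_of_trivial
  set E := irrEquiv (fixedEquiv hnorm hC hCG)
  have hcl : ∀ (χ : IrrCharacter G) (β : IrrCharacter (Fixed (conjOp hnorm))) (m : ℕ),
      classInner (fun c : C => (χ : G → ℂ) ⟨c, hCG c.2⟩) (E β : C → ℂ) = (m : ℂ) →
      vec (p := p) (conjOp hnorm) χ β = (m : ZMod p) := by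
    intro χ β m hm
    rw [classInner_fixed hnorm hC hCG] at hm
    rw [vec, show mult (Fixed (conjOp hnorm)) χ β = m by exact_mod_cast hm]
  have hdiv : ∀ m : ℕ, ¬ p ∣ m ↔ (m : ZMod p) ≠ 0 := fun m => by
    rw [Ne, ZMod.natCast_eq_zero_iff]
  refine ⟨fun χ hχ => ?_, fun χ hχ β m hm hd => ?_, fun χ χ' hχ hχ' β m m' hm hd hm' hd' => ?_,
    fun β => ?_⟩
  · obtain ⟨⟨β, hβ, hu⟩, -⟩ := h1 χ ((invFun_iff hnorm _).2 hχ)
    refine ⟨E β, ⟨_, classInner_fixed hnorm hC hCG χ β, (hdiv _).2 hβ⟩, ?_⟩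
    rintro γ ⟨m, hm, hd⟩
    obtain ⟨γ, rfl⟩ := E.surjective γ
    rw [hu γ (show vec (p := p) (conjOp hnorm) χ γ ≠ 0 by rw [hcl χ γ m hm]; exact (hdiv m).1 hd)]
  · obtain ⟨β, rfl⟩ := E.surjective β
    obtain ⟨-, hpm⟩ := h1 χ ((invFun_iff hnorm _).2 hχ)
    have hv := hcl χ β m hm
    rw [← ZMod.intCast_eq_intCast_iff, ← ZMod.intCast_eq_intCast_iff]
    simp only [Int.cast_natCast, Int.cast_one, Int.cast_neg]
    have := hpm β (by rw [hv]; exact (hdiv m).1 hd)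
    rwa [hv] at this
  · obtain ⟨β, rfl⟩ := E.surjective β
    exact h2 χ χ' ((invFun_iff hnorm _).2 hχ) ((invFun_iff hnorm _).2 hχ') β
      (by rw [hcl χ β m hm]; exact (hdiv m).1 hd) (by rw [hcl χ' β m' hm']; exact (hdiv m').1 hd')
  · obtain ⟨β, rfl⟩ := E.surjective β
    obtain ⟨χ, hχ, hv⟩ := h3 β
    exact ⟨χ, (invFun_iff hnorm _).1 hχ, _, classInner_fixed hnorm hC hCG χ β, (hdiv _).2 hv⟩

end Cfsg.Agent.Char.Glauberman
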