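import Mathlib
import Cfsg.Agent.Char.Glauberman.Bridge
import Cfsg.Agent.Char.Gallagher
import Cfsg.Agent.Char.FixedExt
import Cfsg.Agent.ProjExt.Degree
import Cfsg.Agent.Blocks.Congr
import Cfsg.Agent.S0867

/-!
# Characters of degree prime to a coprime complement
-/

namespace Cfsg.Agent.Char.Glauberman

open scoped ComplexConjugate

universe u v

theorem card_conjClasses_congr {G H : Type u} [Group G] [Group H] [Finite G] [Finite H]
    (e : G ≃* H) : Nat.card (ConjClasses G) = Nat.card (ConjClasses H) := by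
  rw [← card_irrCharacter, ← card_irrCharacter]
  exact (Nat.card_congr (irrEquiv e)).symm

/-- The invariant classes are as many as the classes of the fixed points. -/
theorem card_invClass_eq_fixed : ∀ (n : ℕ) {G : Type u} [Group G] [Finite G] {A : Type v} [Group A]
    [Finite A] (a : A →* MulAut G), Nat.card A = n → Group.IsSolvable A →
      (Nat.card G).Coprime (Nat.card A) →
      Nat.card (InvClass a) = Nat.card (ConjClasses (Fixed a)) := by
  intro n
  induction n using Nat.strong_induction_on with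
  | _ n ih =>
    intro G _ _ A _ _ a hn hsol hcop
    rcases subsingleton_or_nontrivial A with h | h
    · have h1 : ∀ t : A, a t = 1 := fun t => by rw [Subsingleton.elim t 1, map_one]
      let e : Fixed a ≃* G :=
        { toFun := fun g => g, invFun := fun g => ⟨g, fun t => by rw [h1]; rfl⟩
          left_inv := fun _ => rfl, right_inv := fun _ => rfl, map_mul' := fun _ _ => rfl }
      calc Nat.card (InvClass a) = Nat.card (ConjClasses G) :=
            Nat.card_congr (Equiv.subtypeUnivEquiv fun K t g hg => by rw [h1]; exact hg)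
        _ = _ := (card_conjClasses_congr e).symm
    · obtain ⟨p, T, hp, hTn, hT, hTne, hpA⟩ := exists_normal_pGroup hsol
      have := Fact.mk hp
      have hcop' : ¬ p ∣ Nat.card G := fun hd =>
        hp.not_dvd_one (hcop.gcd_eq_one ▸ Nat.dvd_gcd hd hpA)
      rw [← card_invClass_eq a T hT hcop']
      have hlt : Nat.card (A ⧸ T) < n := by
        rw [← hn, ← Subgroup.index_eq_card]
        refine lt_of_le_of_ne (Nat.le_of_dvd Nat.card_pos (Subgroup.index_dvd_card T))
          fun e => hTne ?_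
        have h1 := Subgroup.card_mul_index T
        rw [e] at h1
        exact Subgroup.eq_bot_of_card_eq T ((mul_eq_right₀ Nat.card_pos.ne').1 h1)
      rw [ih _ hlt (quotAct a T) rfl inferInstance
        ((hcop.coprime_dvd_left (Subgroup.card_subgroup_dvd_card _)).coprime_dvd_right
          (Subgroup.card_quotient_dvd_card T))]
      exact card_conjClasses_congr
        { toFun := fun g => ⟨((g : Fixed (a.comp T.subtype)) : G), fun x =>
            congrArg Subtype.val (g.2 (x : A ⧸ T))⟩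
          invFun := fun g => ⟨⟨g, fun t => g.2 t⟩, fun y => by
            obtain ⟨x, rfl⟩ := QuotientGroup.mk_surjective y
            exact Subtype.ext (g.2 x)⟩
          left_inv := fun _ => rfl
          right_inv := fun _ => rfl
          map_mul' := fun _ _ => rfl }

variable {G : Type u} [Group G] [Finite G]

theorem detOrder_dvd_card {χ : G → ℂ} (hχ : IsCharacter G χ) : detOrder χ ∣ Nat.card G := by
  obtain ⟨lam, hlam⟩ := ProjExt.exists_detChar_hom hχ
  rw [detOrder, hlam, ProjExt.orderOf_hom_coe]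
  exact orderOf_dvd_of_pow_eq_one (MonoidHom.ext fun g => by
    rw [MonoidHom.pow_apply, MonoidHom.one_apply, ← map_pow, pow_card_eq_one', map_one])

/-- The irreducible characters of degree prime to the coprime index of `K`. -/
theorem card_coprime_degree (K : Subgroup G) [K.Normal]
    (hcop : (Nat.card K).Coprime K.index) :
    Nat.card {χ : IrrCharacter G // (charDegree (χ : G → ℂ)).Coprime K.index} =
      Nat.card {θ : IrrCharacter K // ∀ g : G, conjFun g (θ : K → ℂ) = θ} *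
      Nat.card {l : IrrCharacter (G ⧸ K) // (l : G ⧸ K → ℂ) 1 = 1} := by
  classical
  have := Fintype.ofFinite G
  have : Fintype K := Fintype.ofFinite _
  have hext : ∀ θ : {θ : IrrCharacter K // ∀ g : G, conjFun g (θ : K → ℂ) = θ},
      ∃ χ : G → ℂ, IsIrrCharacter G χ ∧ ∀ n : K, χ n = (θ.1 : K → ℂ) n := by
    intro θ
    obtain ⟨d, -, hd⟩ := IsIrr.degree θ.1.2
    obtain ⟨χ, ⟨h1, h2, -⟩, -⟩ := S0867.result K (θ.1 : K → ℂ) θ.1.2
      (fun g n => congrFun (θ.2 g) n) d hd
      (Nat.Coprime.mul_right (hcop.symm.coprime_dvd_right (detOrder_dvd_card (IsIrr.isCharacter θ.1.2)))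
        (hcop.symm.coprime_dvd_right (IsIrr.degree_dvd_card θ.1.2 hd)))
    exact ⟨χ, h1, h2⟩
  choose ext hirr hres using hext
  have hN : ∀ θ, IsIrrCharacter K (fun n : K => ext θ n) := fun θ => by
    rw [funext (hres θ)]; exact θ.1.2
  have hlker : ∀ l : IrrCharacter (G ⧸ K), ∀ n ∈ K,
      (l : G ⧸ K → ℂ) (QuotientGroup.mk n) = (l : G ⧸ K → ℂ) (QuotientGroup.mk 1) :=
    fun l n hn => by rw [(QuotientGroup.eq_one_iff n).2 hn]; rfl
  let F : {θ : IrrCharacter K // ∀ g : G, conjFun g (θ : K → ℂ) = θ} ×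
      {l : IrrCharacter (G ⧸ K) // (l : G ⧸ K → ℂ) 1 = 1} →
      {χ : IrrCharacter G // (charDegree (χ : G → ℂ)).Coprime K.index} := fun x =>
    ⟨⟨(fun g => (x.2.1 : G ⧸ K → ℂ) (QuotientGroup.mk g)) * ext x.1,
      isIrr_mul_of_res_irr K (hirr x.1) (hN x.1) (isIrrCharacter_mk K x.2.1.2) (hlker x.2.1)⟩, by
      obtain ⟨d, -, hd⟩ := IsIrr.degree x.1.1.2
      rw [Blocks.charDegree_eq (n := d) (by
        show (x.2.1 : G ⧸ K → ℂ) (QuotientGroup.mk 1) * ext x.1 1 = d
        rw [QuotientGroup.mk_one, x.2.2, one_mul, ← hd, ← hres x.1 1]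
        rfl)]
      exact hcop.coprime_dvd_left (IsIrr.degree_dvd_card x.1.1.2 hd)⟩
  refine ((Nat.card_prod _ _).symm.trans (Nat.card_eq_of_bijective F ⟨?_, ?_⟩)).symm
  · rintro ⟨θ, l⟩ ⟨θ', l'⟩ e
    have e1 : (fun g => (l.1 : G ⧸ K → ℂ) (QuotientGroup.mk g)) * ext θ =
        (fun g => (l'.1 : G ⧸ K → ℂ) (QuotientGroup.mk g)) * ext θ' :=
      congrArg (fun z : {χ : IrrCharacter G // (charDegree (χ : G → ℂ)).Coprime K.index} =>
        (z.1 : G → ℂ)) e
    have hθ : θ = θ' := by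
      apply Subtype.ext
      apply Subtype.ext
      funext n
      have := congrFun e1 (n : G)
      simp only [Pi.mul_apply, hlker _ _ n.2, QuotientGroup.mk_one, l.2, l'.2, one_mul, hres] at this
      exact this
    subst hθ
    congr 1
    apply Subtype.ext
    apply Subtype.ext
    funext q
    obtain ⟨g, rfl⟩ := QuotientGroup.mk_surjective q
    have h1 := galEta_mul K (hirr θ) (hN θ) (isCharacter_comp (QuotientGroup.mk' K)
      (IsIrr.isCharacter l.1.2)) (hlker l.1)
    have h2 := galEta_mul K (hirr θ) (hN θ) (isCharacter_comp (QuotientGroup.mk' K)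
      (IsIrr.isCharacter l'.1.2)) (hlker l'.1)
    have e2 : (fun x : G => (l.1 : G ⧸ K → ℂ) (QuotientGroup.mk' K x)) * ext θ =
        (fun x : G => (l'.1 : G ⧸ K → ℂ) (QuotientGroup.mk' K x)) * ext θ := e1
    exact congrFun (h1.symm.trans ((congrArg _ e2).trans h2)) g
  · rintro ⟨χ, hχ⟩
    obtain ⟨θ, hθ⟩ := exists_constituent_res (N := K) χ.2
    obtain ⟨m, -, hm⟩ := IsIrr.degree χ.2
    obtain ⟨k, -, hk⟩ := IsIrr.degree θ.2
    rw [Blocks.charDegree_eq hm] at hχ
    have hdeg := degree_eq_of_clifford χ.2 θ.2 hθ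
    rw [mult_spec, hm, hk, ← Nat.cast_mul, ← Nat.cast_mul, Nat.cast_inj] at hdeg
    have hI : inertia (θ : K → ℂ) = ⊤ := by
      rw [← Subgroup.index_eq_one]
      have h1 : (inertia (θ : K → ℂ)).index ∣ m :=
        hdeg ▸ dvd_mul_of_dvd_left (dvd_mul_left _ _) _
      have h2 : (inertia (θ : K → ℂ)).index ∣ K.index :=
        Subgroup.index_dvd_of_le (le_inertia (isClassFunction_of_isIrr θ.2))
      exact Nat.dvd_one.1 (hχ.gcd_eq_one ▸ Nat.dvd_gcd h1 h2)
    have hinv : ∀ g : G, conjFun g (θ : K → ℂ) = θ := fun g =>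
      mem_inertia.1 (hI.symm ▸ Subgroup.mem_top g)
    have horb : orbit (θ : K → ℂ) = {(θ : K → ℂ)} :=
      Finset.eq_singleton_iff_unique_mem.2 ⟨self_mem_orbit _, fun η hη => by
        obtain ⟨g, rfl⟩ := mem_orbit.1 hη; exact hinv g⟩
    have hres' : ∀ n : K, (χ : G → ℂ) n = (mult K χ θ : ℂ) * (θ : K → ℂ) n := fun n => by
      have := congrFun (clifford χ.2 θ.2 hθ) n
      rwa [horb, Finset.sum_singleton, mult_spec] at this
    have he : mult K χ θ = 1 := by
      have h1 : mult K χ θ ∣ m := hdeg ▸ dvd_mul_of_dvd_left (dvd_mul_right _ _) _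
      have h2 := ProjExt.dvd_index_of_isotypic K χ.2 θ.2 hres'
      exact Nat.dvd_one.1 (hχ.gcd_eq_one ▸ Nat.dvd_gcd h1 h2)
    have hcl : classInner (fun n : K => (χ : G → ℂ) n) (fun n : K => ext ⟨θ, hinv⟩ n) ≠ 0 := by
      rw [funext (hres ⟨θ, hinv⟩)]; exact hθ
    obtain ⟨hη, hker, hprod⟩ := (gallagher K (hirr ⟨θ, hinv⟩) (hN ⟨θ, hinv⟩) χ.2).1 hcl
    obtain ⟨φ, hφ, hφe⟩ := IsIrr.exists_quotient K hη hker
    have hφ1 : φ 1 = 1 := by
      have h1 := congrFun hprod 1
      rw [Pi.mul_apply, hφe, QuotientGroup.mk_one] at h1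
      have h2 : ext ⟨θ, hinv⟩ 1 = (θ : K → ℂ) 1 := hres ⟨θ, hinv⟩ 1
      have h3 : (χ : G → ℂ) 1 = (θ : K → ℂ) 1 := by
        have := hres' 1; rwa [he, Nat.cast_one, one_mul] at this
      rw [h2, h3] at h1
      exact (mul_eq_right₀ (IsIrr.one_ne_zero θ.2)).1 h1.symm
    refine ⟨(⟨θ, hinv⟩, ⟨⟨φ, hφ⟩, hφ1⟩), Subtype.ext (Subtype.ext ?_)⟩
    show (fun g => φ (QuotientGroup.mk g)) * ext ⟨θ, hinv⟩ = (χ : G → ℂ)
    rw [hprod]
    funext g
    rw [Pi.mul_apply, Pi.mul_apply, hφe g]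

theorem mem_fixed_iff_normalizer {Γ : Type u} [Group Γ] {K H : Subgroup Γ} [K.Normal]
    (hdisj : K ⊓ H = ⊥) (hnorm : ∀ s ∈ H, ∀ g ∈ K, s * g * s⁻¹ ∈ K) (k : K) :
    k ∈ Fixed (conjOp hnorm) ↔ (k : Γ) ∈ Subgroup.normalizer (H : Set Γ) := by
  rw [fixed_eq, Subgroup.mem_subgroupOf]
  refine ⟨fun h => Subgroup.centralizer_le_normalizer _ h, fun h => ?_⟩
  rw [Subgroup.mem_centralizer_iff]
  intro s hs
  have h1 : (k : Γ) * s * (k : Γ)⁻¹ * s⁻¹ ∈ K ⊓ H := by
    refine ⟨?_, H.mul_mem ((Subgroup.mem_normalizer_iff.1 h s).1 hs) (H.inv_mem hs)⟩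
    rw [show (k : Γ) * s * (k : Γ)⁻¹ * s⁻¹ = k * (s * (k : Γ)⁻¹ * s⁻¹) by group]
    exact K.mul_mem k.2 (‹K.Normal›.conj_mem _ (K.inv_mem k.2) s)
  rw [hdisj, Subgroup.mem_bot, mul_inv_eq_one, mul_inv_eq_iff_eq_mul] at h1
  exact h1.symm

/-- The count for a product of a normal subgroup and a solvable coprime complement. -/
theorem card_coprime_degree_eq_normalizer (K H : Subgroup G) [K.Normal] (hKH : K ⊔ H = ⊤)
    (hcop : (Nat.card K).Coprime (Nat.card H)) (hsolv : Group.IsSolvable H) :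
    Nat.card {χ : IrrCharacter G // (charDegree (χ : G → ℂ)).Coprime (Nat.card H)} =
      Nat.card {η : IrrCharacter (Subgroup.normalizer (H : Set G)) //
        (charDegree (η : Subgroup.normalizer (H : Set G) → ℂ)).Coprime (Nat.card H)} := by
  classical
  have := Fintype.ofFinite G
  have hdisj : K ⊓ H = ⊥ := Subgroup.inf_eq_bot_of_coprime hcop
  have hmk : Function.Bijective ((QuotientGroup.mk' K).comp H.subtype) := by
    constructor
    · intro x y e
      have h1 : (x : G)⁻¹ * y ∈ K ⊓ H := ⟨QuotientGroup.eq.1 e, H.mul_mem (H.inv_mem x.2) y.2⟩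
      rw [hdisj, Subgroup.mem_bot, inv_mul_eq_one] at h1
      exact Subtype.ext h1
    · intro q
      obtain ⟨g, rfl⟩ := QuotientGroup.mk_surjective q
      obtain ⟨k, hk, h, hh, rfl⟩ := Subgroup.mem_sup_of_normal_left.1 (hKH ▸ Subgroup.mem_top g :
        g ∈ K ⊔ H)
      refine ⟨⟨h, hh⟩, ?_⟩
      simp only [MonoidHom.comp_apply, Subgroup.coe_subtype, QuotientGroup.mk'_apply]
      rw [QuotientGroup.mk_mul, (QuotientGroup.eq_one_iff k).2 hk, one_mul]
  let eG : H ≃* G ⧸ K := MulEquiv.ofBijective _ hmk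
  have hidx : K.index = Nat.card H := by
    rw [Subgroup.index_eq_card]; exact (Nat.card_congr eG.toEquiv).symm
  set N := Subgroup.normalizer (H : Set G) with hN
  let L : Subgroup N := K.subgroupOf N
  have hHN : H ≤ N := Subgroup.le_normalizer
  have hmkN : Function.Bijective ((QuotientGroup.mk' L).comp (Subgroup.inclusion hHN)) := by
    constructor
    · intro x y e
      have h1 : (x : G)⁻¹ * y ∈ K ⊓ H :=
        ⟨Subgroup.mem_subgroupOf.1 (QuotientGroup.eq.1 e), H.mul_mem (H.inv_mem x.2) y.2⟩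
      rw [hdisj, Subgroup.mem_bot, inv_mul_eq_one] at h1
      exact Subtype.ext h1
    · intro q
      obtain ⟨⟨g, hg⟩, rfl⟩ := QuotientGroup.mk_surjective q
      obtain ⟨k, hk, h, hh, rfl⟩ := Subgroup.mem_sup_of_normal_left.1 (hKH ▸ Subgroup.mem_top g :
        g ∈ K ⊔ H)
      have hkN : k ∈ N := by simpa using N.mul_mem hg (N.inv_mem (hHN hh))
      refine ⟨⟨h, hh⟩, ?_⟩
      show ((⟨h, hHN hh⟩ : N) : N ⧸ L) = ((⟨k * h, hg⟩ : N) : N ⧸ L)
      rw [show (⟨k * h, hg⟩ : N) = (⟨k, hkN⟩ : N) * ⟨h, hHN hh⟩ from rfl, QuotientGroup.mk_mul,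
        (QuotientGroup.eq_one_iff (⟨k, hkN⟩ : N)).2 (Subgroup.mem_subgroupOf.2 hk), one_mul]
  let eN : H ≃* N ⧸ L := MulEquiv.ofBijective _ hmkN
  have hidxN : L.index = Nat.card H := by
    rw [Subgroup.index_eq_card]; exact (Nat.card_congr eN.toEquiv).symm
  have hcardL : Nat.card L ∣ Nat.card K :=
    Subgroup.card_comap_dvd_of_injective K N.subtype N.subtype_injective
  have hcopN : (Nat.card L).Coprime L.index := by
    rw [hidxN]; exact hcop.coprime_dvd_left hcardL
  have hG := card_coprime_degree K (hidx ▸ hcop)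
  have hN' := card_coprime_degree L hcopN
  rw [hidx] at hG
  rw [hidxN] at hN'
  rw [hG, hN']
  have hnorm : ∀ s ∈ H, ∀ g ∈ K, s * g * s⁻¹ ∈ K := fun s _ g hg =>
    ‹K.Normal›.conj_mem g hg s
  let eL : L ≃* Fixed (conjOp hnorm) :=
    { toFun := fun l => ⟨⟨((l : N) : G), l.2⟩, (mem_fixed_iff_normalizer hdisj hnorm _).2 (l : N).2⟩
      invFun := fun c => ⟨⟨((c : K) : G), (mem_fixed_iff_normalizer hdisj hnorm _).1 c.2⟩, c.1.2⟩
      left_inv := fun _ => rfl
      right_inv := fun _ => rfl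
      map_mul' := fun _ _ => rfl }
  have h1 : Nat.card {θ : IrrCharacter K // ∀ g : G, conjFun g (θ : K → ℂ) = θ} =
      Nat.card (InvIrr (conjOp hnorm)) := by
    refine Nat.card_congr (Equiv.subtypeEquivRight fun θ => ⟨fun h s k => congrFun (h s) k,
      fun h g => ?_⟩)
    obtain ⟨k, hk, s, hs, rfl⟩ := Subgroup.mem_sup_of_normal_left.1 (hKH ▸ Subgroup.mem_top g :
      g ∈ K ⊔ H)
    rw [← conjFun_conjFun, conjFun_of_mem hk (isClassFunction_of_isIrr θ.2)]
    exact funext fun n => h ⟨s, hs⟩ n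
  have h2 : Nat.card {θ : IrrCharacter L // ∀ g : N, conjFun g (θ : L → ℂ) = θ} =
      Nat.card (IrrCharacter L) := by
    refine Nat.card_congr (Equiv.subtypeUnivEquiv fun θ g => ?_)
    obtain ⟨q, hq⟩ := hmkN.2 (g : N ⧸ L)
    have hk : (Subgroup.inclusion hHN q)⁻¹ * g ∈ L := QuotientGroup.eq.1 hq
    have hs : ∀ n : L, (q : G) * ((n : N) : G) * (q : G)⁻¹ = ((n : N) : G) := by
      intro n
      have := (eL n).2 ⟨(q : G), q.2⟩
      exact congrArg Subtype.val this
    have hg : g = Subgroup.inclusion hHN q * ((Subgroup.inclusion hHN q)⁻¹ * g) := by group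
    rw [hg, ← conjFun_conjFun]
    rw [show conjFun (Subgroup.inclusion hHN q) (θ : L → ℂ) = θ from funext fun n => by
      rw [conjFun_apply]; exact congrArg _ (Subtype.ext (Subtype.ext (hs n)))]
    exact conjFun_of_mem hk (isClassFunction_of_isIrr θ.2)
  rw [h1, h2, card_invIrr_eq_invClass _ (conjOp hnorm) rfl hsolv hcop,
    card_invClass_eq_fixed _ (conjOp hnorm) rfl hsolv hcop, card_irrCharacter,
    card_conjClasses_congr eL]
  congr 1
  exact Nat.card_congr (((irrEquiv eG).trans (irrEquiv eN).symm).subtypeEquiv fun χ => by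
    show _ ↔ (χ : G ⧸ K → ℂ) (eG (eN.symm 1)) = 1
    rw [map_one, map_one])

end Cfsg.Agent.Char.Glauberman
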