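import Mathlib
import Cfsg.Agent.Char.Glauberman.Count
import Cfsg.Agent.Char.Galois
import Cfsg.Agent.Char.Zero

/-!
# Values of canonical extensions under a cyclic coprime group of operators
-/

namespace Cfsg.Agent.Char.Glauberman

open scoped ComplexConjugate

universe u

theorem detChar_map {H : Type u} [Group H] [Finite H] (σ : ℂ →+* ℂ) {χ : H → ℂ}
    (h : IsCharacter H χ) : detChar (fun g => σ (χ g)) = fun g => σ (detChar χ g) := by
  classical
  obtain ⟨n, ρ, rfl⟩ := h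
  let M : H →* Matrix (Fin n) (Fin n) ℂ :=
    (σ.mapMatrix.toMonoidHom).comp ((LinearMap.toMatrixAlgEquiv'.toRingEquiv.toMonoidHom).comp ρ)
  let ρ' : Representation ℂ H (Fin n → ℂ) :=
    (Matrix.toLinAlgEquiv'.toRingEquiv.toMonoidHom).comp M
  have h1 : ρ'.character = fun g => σ (ρ.character g) := funext fun g => by
    show LinearMap.trace ℂ _ (Matrix.toLinAlgEquiv' (M g)) = σ (LinearMap.trace ℂ _ (ρ g))
    rw [LinearMap.trace_eq_matrix_trace ℂ (Pi.basisFun ℂ (Fin n)),
      LinearMap.trace_eq_matrix_trace ℂ (Pi.basisFun ℂ (Fin n))]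
    simp only [LinearMap.toMatrix_eq_toMatrix', M]
    refine Eq.trans ?_ (AddMonoidHom.map_trace σ.toAddMonoidHom _).symm
    exact congrArg Matrix.trace (LinearMap.toMatrix'_toLin' _)
  rw [ProjExt.detChar_eq_det ρ' h1, ProjExt.detChar_eq_det ρ rfl]
  funext g
  show LinearMap.det (Matrix.toLin' ((LinearMap.toMatrix' (ρ g)).map σ)) = σ (LinearMap.det (ρ g))
  rw [LinearMap.det_toLin', ← LinearMap.det_toMatrix', RingHom.map_det]
  rfl

theorem detOrder_map {H : Type u} [Group H] [Finite H] (σ : ℂ →+* ℂ) {χ : H → ℂ}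
    (h : IsCharacter H χ) : detOrder (fun g => σ (χ g)) = detOrder χ := by
  rw [detOrder, detOrder, detChar_map σ h]
  exact orderOf_injective
    ({ toFun := fun f g => σ (f g)
       map_one' := funext fun _ => map_one σ
       map_mul' := fun _ _ => funext fun _ => map_mul σ _ _ } : (H → ℂ) →* (H → ℂ))
    (fun a b e => funext fun g => σ.injective (congrFun e g)) _

variable {Γ : Type u} [Group Γ] [Fintype Γ]

/-- Sums of class functions over a coset `G s`, for `s` acting coprimely on `G` with fixed points `C`. -/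
theorem sum_coset_of {G C : Subgroup Γ} {s : Γ} (hG : G.Normal)
    (hcop : (Nat.card G).Coprime (orderOf s)) (hmem : ∀ g : Γ, g ∈ C ↔ g ∈ G ∧ g * s = s * g)
    [Fintype G] [Fintype C] {f : Γ → ℂ} (hf : IsClassFunction Γ f) :
    (Nat.card C : ℂ) * ∑ g : G, f (g * s) = (Nat.card G : ℂ) * ∑ c : C, f (c * s) := by
  classical
  have hle : C ≤ G := fun g hg => ((hmem g).1 hg).1
  have := hG
  have hΦ : ∀ (x : G) (c : C), (x : Γ) * c * (s * (x : Γ)⁻¹ * s⁻¹) ∈ G := fun x c =>
    G.mul_mem (G.mul_mem x.2 (hle c.2)) (hG.conj_mem _ (G.inv_mem x.2) s)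
  let Φ : G × C → G := fun xc => ⟨_, hΦ xc.1 xc.2⟩
  have hconj : ∀ xc : G × C,
      ((Φ xc : G) : Γ) * s = (xc.1 : Γ) * ((xc.2 : Γ) * s) * (xc.1 : Γ)⁻¹ := fun xc => by
    show (xc.1 : Γ) * xc.2 * (s * (xc.1 : Γ)⁻¹ * s⁻¹) * s = _
    group
  obtain ⟨k, hk⟩ : ∃ k : ℕ, ∀ c : C, ((c : Γ) * s) ^ k = s := by
    obtain ⟨k, hk0, hk1⟩ := Nat.chineseRemainder hcop 0 1
    refine ⟨k, fun c => ?_⟩
    rw [(show Commute (c : Γ) s from ((hmem c).1 c.2).2).mul_pow]
    obtain ⟨m, hm⟩ := Nat.modEq_zero_iff_dvd.1 hk0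
    have h1 : (c : Γ) ^ k = 1 := by
      have h2 : (⟨(c : Γ), hle c.2⟩ : G) ^ Nat.card G = 1 := pow_card_eq_one'
      have h3 : (c : Γ) ^ Nat.card G = 1 := congrArg Subtype.val h2
      rw [hm, pow_mul, h3, one_pow]
    rw [h1, one_mul]
    conv_rhs => rw [← pow_one s]
    exact pow_eq_pow_iff_modEq.2 hk1
  have hdist : ∀ xc yd : G × C, Φ xc = Φ yd → (xc.1 : Γ)⁻¹ * yd.1 ∈ C := by
    intro xc yd e
    have e1 := hconj xc
    rw [e, hconj yd] at e1
    have e2 := congrArg (· ^ k) e1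
    simp only [conj_pow, hk] at e2
    refine (hmem _).2 ⟨G.mul_mem (G.inv_mem xc.1.2) yd.1.2, ?_⟩
    calc (xc.1 : Γ)⁻¹ * yd.1 * s = (xc.1 : Γ)⁻¹ * (yd.1 * s * (yd.1 : Γ)⁻¹) * yd.1 := by group
      _ = _ := by rw [e2]; group
  have hfib : ∀ g : G, (Finset.univ.filter fun xc => Φ xc = g).card ≤ Fintype.card C := by
    intro g
    rcases (Finset.univ.filter fun xc => Φ xc = g).eq_empty_or_nonempty with he | ⟨xc, hxc⟩
    · simp [he]
    rw [← Fintype.card_coe, ]
    refine Fintype.card_le_of_injective (fun yd => ⟨_, hdist xc yd.1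
      ((Finset.mem_filter.1 hxc).2.trans (Finset.mem_filter.1 yd.2).2.symm)⟩) ?_
    intro a b e
    have e1 : a.1.1 = b.1.1 := Subtype.ext (mul_left_cancel (congrArg Subtype.val e))
    refine Subtype.ext (Prod.ext e1 (Subtype.ext ?_))
    have e2 : ((Φ a.1 : G) : Γ) * s = ((Φ b.1 : G) : Γ) * s := congrArg (fun y : G => (y : Γ) * s)
      ((Finset.mem_filter.1 a.2).2.trans (Finset.mem_filter.1 b.2).2.symm)
    rw [hconj, hconj, e1] at e2
    exact mul_right_cancel (mul_left_cancel (mul_right_cancel e2))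
  have htot : ∑ g : G, (Finset.univ.filter fun xc => Φ xc = g).card =
      ∑ _g : G, Fintype.card C := by
    rw [← Finset.card_eq_sum_card_fiberwise (fun xc _ => Finset.mem_univ (Φ xc)), Finset.card_univ,
      Fintype.card_prod, Finset.sum_const, Finset.card_univ, smul_eq_mul]
  have hall : ∀ g : G, (Finset.univ.filter fun xc => Φ xc = g).card = Fintype.card C := fun g =>
    (Finset.sum_eq_sum_iff_of_le fun i _ => hfib i).1 htot g (Finset.mem_univ g)
  calc (Nat.card C : ℂ) * ∑ g : G, f (g * s)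
      = ∑ g : G, ∑ xc ∈ Finset.univ.filter (fun xc => Φ xc = g), f ((Φ xc : G) * s) := by
        rw [Finset.mul_sum]
        refine Finset.sum_congr rfl fun g _ => ?_
        rw [Finset.sum_congr rfl fun xc hxc => by rw [(Finset.mem_filter.1 hxc).2], Finset.sum_const,
          hall g, nsmul_eq_mul, Nat.card_eq_fintype_card]
    _ = ∑ xc : G × C, f ((Φ xc : G) * s) := Finset.sum_fiberwise Finset.univ Φ _
    _ = ∑ xc : G × C, f ((xc.2 : Γ) * s) := Finset.sum_congr rfl fun xc _ => by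
        rw [hconj xc, hf]
    _ = _ := by
        simp only [Fintype.sum_prod_type, Finset.sum_const, Finset.card_univ, nsmul_eq_mul,
          Nat.card_eq_fintype_card]

/-- A cyclic coprime complement `⟨s⟩` of a normal subgroup, with centraliser `C`. -/
structure CycSetup (G C : Subgroup Γ) (s : Γ) : Prop where
  normal : G.Normal
  gen : G ⊔ Subgroup.zpowers s = ⊤
  cop : (Nat.card G).Coprime (orderOf s)
  mem : ∀ g : Γ, g ∈ C ↔ g ∈ G ∧ g * s = s * g

namespace CycSetup

variable {G C : Subgroup Γ} {s : Γ} (h : CycSetup G C s)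

include h

theorem le : C ≤ G := fun g hg => ((h.mem g).1 hg).1

theorem commute (c : C) : Commute (c : Γ) s := ((h.mem c).1 c.2).2

omit [Fintype Γ] in
theorem inf_eq_bot [Finite Γ] : G ⊓ Subgroup.zpowers s = ⊥ :=
  Subgroup.inf_eq_bot_of_coprime (by rw [Nat.card_zpowers]; exact h.cop)

theorem exists_mul (x : Γ) : ∃ g : G, ∃ i : ℤ, x = (g : Γ) * s ^ i := by
  have := h.normal
  obtain ⟨g, hg, z, hz, rfl⟩ :=
    Subgroup.mem_sup_of_normal_left.1 (h.gen ▸ Subgroup.mem_top x : x ∈ G ⊔ Subgroup.zpowers s)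
  obtain ⟨i, rfl⟩ := Subgroup.mem_zpowers_iff.1 hz
  exact ⟨⟨g, hg⟩, i, rfl⟩

theorem index_eq : G.index = orderOf s := by
  have := h.normal
  have hb : Function.Bijective ((QuotientGroup.mk' G).comp (Subgroup.zpowers s).subtype) := by
    constructor
    · intro x y e
      have h1 : (x : Γ)⁻¹ * y ∈ G ⊓ Subgroup.zpowers s :=
        ⟨QuotientGroup.eq.1 e, Subgroup.mul_mem _ (Subgroup.inv_mem _ x.2) y.2⟩
      rw [h.inf_eq_bot, Subgroup.mem_bot, inv_mul_eq_one] at h1
      exact Subtype.ext h1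
    · intro q
      obtain ⟨x, rfl⟩ := QuotientGroup.mk_surjective q
      obtain ⟨g, i, rfl⟩ := h.exists_mul x
      refine ⟨⟨s ^ i, Subgroup.zpow_mem _ (Subgroup.mem_zpowers s) i⟩, ?_⟩
      simp only [MonoidHom.comp_apply, Subgroup.coe_subtype, QuotientGroup.mk'_apply]
      rw [QuotientGroup.mk_mul, (QuotientGroup.eq_one_iff (g : Γ)).2 g.2, one_mul]
  rw [Subgroup.index_eq_card, ← Nat.card_eq_of_bijective _ hb, Nat.card_zpowers]

theorem exists_exponent : ∃ k : ℕ, ∀ c : C, ((c : Γ) * s) ^ k = s := by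
  obtain ⟨k, hk0, hk1⟩ := Nat.chineseRemainder h.cop 0 1
  refine ⟨k, fun c => ?_⟩
  rw [(h.commute c).mul_pow]
  obtain ⟨m, hm⟩ := Nat.modEq_zero_iff_dvd.1 hk0
  have h1 : (c : Γ) ^ k = 1 := by
    have h2 : (⟨(c : Γ), h.le c.2⟩ : G) ^ Nat.card G = 1 := pow_card_eq_one'
    have h3 : (c : Γ) ^ Nat.card G = 1 := congrArg Subtype.val h2
    rw [hm, pow_mul, h3, one_pow]
  rw [h1, one_mul]
  conv_rhs => rw [← pow_one s]
  exact pow_eq_pow_iff_modEq.2 hk1

/-- Sums of class functions over the coset `G s`. -/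
theorem sum_coset [Fintype G] [Fintype C] {f : Γ → ℂ} (hf : IsClassFunction Γ f) :
    (Nat.card C : ℂ) * ∑ g : G, f (g * s) = (Nat.card G : ℂ) * ∑ c : C, f (c * s) :=  sum_coset_of h.normal h.cop h.mem hf

/-- Orthonormality of the restrictions to `C s`. -/
theorem orth [Fintype G] [Fintype C] {χ ψ : Γ → ℂ} (hχ : IsIrrCharacter Γ χ)
    (hψ : IsIrrCharacter Γ ψ) (hres : IsIrrCharacter G (fun g : G => χ g)) :
    (classInner (fun g : G => ψ g) (fun g : G => χ g) = 0 →
      classInner (fun c : C => ψ (c * s)) (fun c : C => χ (c * s)) = 0) ∧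
    classInner (fun c : C => χ (c * s)) (fun c : C => χ (c * s)) = 1 := by
  have := h.normal
  have key : ∀ φ : Γ → ℂ, IsClassFunction Γ φ →
      classInner (fun c : C => φ (c * s)) (fun c : C => χ (c * s)) = galEta G χ φ s := by
    intro φ hφ
    have h1 := h.sum_coset (f := fun x => φ x * conj (χ x)) fun x y => by
      simp only [hφ x y, isClassFunction_of_isIrr hχ x y]
    simp only [classInner, galEta]
    have h2 : (Nat.card C : ℂ) ≠ 0 := card_ne_zero
    have h3 : (Nat.card G : ℂ) ≠ 0 := card_ne_zero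
    field_simp
    linear_combination -h1
  refine ⟨fun h0 => ?_, ?_⟩
  · rw [key ψ (isClassFunction_of_isIrr hψ), (gallagher G hχ hres hψ).2 h0]
    rfl
  · rw [key χ (isClassFunction_of_isIrr hχ)]
    exact avg_normSq_eq_one G hχ hres s

omit [Fintype Γ] in
theorem generator {j : ℕ} (hj : j.Coprime (orderOf s)) :
    Subgroup.zpowers (s ^ j) = Subgroup.zpowers s := by
  refine le_antisymm (Subgroup.zpowers_le.2 ⟨j, zpow_natCast s j⟩) (Subgroup.zpowers_le.2 ?_)
  obtain ⟨m, hm⟩ := exists_pow_eq_self_of_coprime hj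
  exact ⟨m, by show (s ^ j) ^ (m : ℤ) = s; rw [zpow_natCast, hm]⟩

/-- An exponent fixing `G` and raising `s` to the `j`-th power. -/
theorem exists_galois_exp {j : ℕ} (hj : j.Coprime (orderOf s)) :
    ∃ k : ℕ, k.Coprime (Nat.card Γ) ∧ (∀ g : Γ, g ∈ G → g ^ k = g) ∧ s ^ k = s ^ j := by
  obtain ⟨k, hk0, hk1⟩ := Nat.chineseRemainder h.cop 1 j
  refine ⟨k, ?_, fun g hg => ?_, pow_eq_pow_iff_modEq.2 hk1⟩
  · rw [← Subgroup.card_mul_index G, h.index_eq]
    refine Nat.Coprime.mul_right ?_ ?_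
    · have := hk0.gcd_eq; rwa [Nat.gcd_one_left] at this
    · have := hk1.gcd_eq; rw [hj] at this; exact this
  · have h2 : (⟨g, hg⟩ : G) ^ k = (⟨g, hg⟩ : G) ^ 1 :=
      pow_eq_pow_iff_modEq.2 (hk0.of_dvd (orderOf_dvd_natCard _))
    rw [pow_one] at h2
    exact congrArg Subtype.val h2

/-- A canonical extension is fixed by Galois automorphisms fixing the values on `G`. -/
theorem apply_pow [Fintype G] (χ : IrrCharacter G) {χh : Γ → ℂ} (hχh : IsIrrCharacter Γ χh)
    (hext : ∀ g : G, χh g = (χ : G → ℂ) g) (hdet : (detOrder χh).Coprime (orderOf s))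
    {k : ℕ} (hk : k.Coprime (Nat.card Γ)) (hkG : ∀ g : Γ, g ∈ G → g ^ k = g) (x : Γ) :
    χh (x ^ k) = χh x := by
  have hGn := h.normal
  obtain ⟨σ, hσ⟩ := exists_galois_pow (G := Γ) k hk
  have hc := IsIrr.isCharacter hχh
  have hinv : ∀ (y : Γ) (n : G),
      (χ : G → ℂ) ⟨y * n * y⁻¹, hGn.conj_mem (n : Γ) n.2 y⟩ = (χ : G → ℂ) n := fun y n => by
    rw [← hext, ← hext, isClassFunction_of_isIrr hχh (n : Γ) y]
  obtain ⟨d, -, hd⟩ := IsIrr.degree χ.2
  have hidx : G.index.Coprime (detOrder (χ : G → ℂ) * d) := by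
    rw [h.index_eq]
    exact Nat.Coprime.mul_right
      (h.cop.symm.coprime_dvd_right (detOrder_dvd_card (IsIrr.isCharacter χ.2)))
      (h.cop.symm.coprime_dvd_right (IsIrr.degree_dvd_card χ.2 hd))
  obtain ⟨χ₀, -, huniq⟩ := S0867.result G (χ : G → ℂ) χ.2 hinv d hd hidx
  have h1 := huniq χh hχh hext (by rw [h.index_eq]; exact hdet.symm)
  have h2 := huniq (fun y => σ (χh y)) (isIrr_map σ hχh) (fun g => by
      rw [hσ hc, hkG g g.2, hext]) (by rw [h.index_eq, detOrder_map σ hc]; exact hdet.symm)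
  rw [← hσ hc]
  exact (congrFun h2 x).trans (congrFun h1 x).symm

/-- The multiplicity of a constituent on `C` as a function on `⟨s⟩`. -/
theorem mu_isCharacter [Fintype C] {χh : Γ → ℂ} (hc : IsCharacter Γ χh)
    (η : IrrCharacter C) :
    IsCharacter (Subgroup.zpowers s)
      (fun x : Subgroup.zpowers s => classInner (fun c : C => χh (c * (x : Γ))) (η : C → ℂ)) := by
  classical
  let φ : C × Subgroup.zpowers s →* Γ :=
    { toFun := fun cx => (cx.1 : Γ) * cx.2
      map_one' := by simp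
      map_mul' := fun a b => by
        have hab : Commute (b.1 : Γ) a.2 := by
          obtain ⟨i, hi⟩ := Subgroup.mem_zpowers_iff.1 a.2.2
          rw [← hi]
          exact (h.commute b.1).zpow_right i
        show (a.1 : Γ) * b.1 * ((a.2 : Γ) * b.2) = a.1 * a.2 * ((b.1 : Γ) * b.2)
        rw [mul_assoc, mul_assoc, ← mul_assoc (b.1 : Γ), hab.eq, mul_assoc] }
  have : Fintype (Subgroup.zpowers s) := Fintype.ofFinite _
  let N : Subgroup (C × Subgroup.zpowers s) := (MonoidHom.snd C (Subgroup.zpowers s)).ker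
  have : Fintype N := Fintype.ofFinite _
  have hchar := isCharacter_avg N (isCharacter_mul (isCharacter_comp φ hc)
    (isCharacter_comp (MonoidHom.fst C (Subgroup.zpowers s))
      (isCharacter_conj (IsIrr.isCharacter η.2))))
  have h2 := isCharacter_comp (MonoidHom.inr C (Subgroup.zpowers s)) hchar
  let e : N ≃ C :=
    { toFun := fun n => n.1.1
      invFun := fun c => ⟨(c, 1), MonoidHom.mem_ker.2 rfl⟩
      left_inv := fun n => Subtype.ext (Prod.ext rfl (MonoidHom.mem_ker.1 n.2).symm)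
      right_inv := fun _ => rfl }
  have heq : (fun x : Subgroup.zpowers s => classInner (fun c : C => χh (c * (x : Γ))) (η : C → ℂ)) =
      fun x => (fun g => (Nat.card N : ℂ)⁻¹ * ∑ n : N, ((fun a => χh (φ a)) * fun a =>
        conj ((η : C → ℂ) ((MonoidHom.fst C (Subgroup.zpowers s)) a))) ((n : C × Subgroup.zpowers s) * g))
        ((MonoidHom.inr C (Subgroup.zpowers s)) x) := by
    funext x
    simp only [classInner]
    rw [Nat.card_congr e]
    congr 1
    refine (Fintype.sum_equiv e _ _ fun n => ?_).symm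
    have hn : (n : C × Subgroup.zpowers s).2 = 1 := MonoidHom.mem_ker.1 n.2
    simp [φ, e, hn]
  rw [heq]
  exact h2

/-- The values on `C s` of a canonical extension. -/
theorem exists_value [Fintype G] [Fintype C] (χ : IrrCharacter G) {χh : Γ → ℂ}
    (hχh : IsIrrCharacter Γ χh) (hext : ∀ g : G, χh g = (χ : G → ℂ) g)
    (hdet : (detOrder χh).Coprime (orderOf s)) :
    ∃ (β : IrrCharacter C) (ε : ℤ), (ε = 1 ∨ ε = -1) ∧
      (∀ c : C, χh (c * s) = (ε : ℂ) * (β : C → ℂ) c) ∧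
      classInner (fun c : C => (χ : G → ℂ) ⟨c, h.le c.2⟩) (β : C → ℂ) ≠ 0 := by
  classical
  have hc := IsIrr.isCharacter hχh
  have : Fintype (Subgroup.zpowers s) := Fintype.ofFinite _
  let f : C → ℂ := fun c => χh (c * s)
  have hf : IsClassFunction C f := by
    intro c k
    show χh (((k * c * k⁻¹ : C) : Γ) * s) = χh (c * s)
    rw [← isClassFunction_of_isIrr hχh ((c : Γ) * s) (k : Γ)]
    congr 1
    have := (h.commute k⁻¹).eq
    push_cast at this ⊢
    rw [mul_assoc (k : Γ) (c : Γ), mul_assoc, mul_assoc (k : Γ), mul_assoc, this]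
    group
  have hint : ∀ η : IrrCharacter C, ∃ z : ℤ, classInner f (η : C → ℂ) = z := by
    intro η
    have hμ := h.mu_isCharacter hc η
    obtain ⟨q, hq⟩ := IsChar.exists_rat hμ ⟨s, Subgroup.mem_zpowers s⟩ fun j hj => by
      rw [Nat.card_zpowers] at hj
      obtain ⟨k, hk, hkG, hks⟩ := h.exists_galois_exp hj
      simp only [SubmonoidClass.coe_pow]
      congr 1
      funext c
      rw [← hks, ← h.apply_pow χ hχh hext hdet hk hkG ((c : Γ) * s), (h.commute c).mul_pow,
        hkG c (h.le c.2)]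
    have hi := IsChar.isIntegral hμ ⟨s, Subgroup.mem_zpowers s⟩
    rw [hq] at hi
    obtain ⟨z, hz⟩ := exists_int_of_isIntegral_rat hi
    refine ⟨z, hq.trans ?_⟩
    rw [← hz]
    push_cast
    rfl
  choose z hz using hint
  have hnorm : ∑ η : IrrCharacter C, z η ^ 2 = 1 := by
    have h1 := (h.orth (C := C) hχh hχh (by rw [funext hext]; exact χ.2)).2
    change classInner f f = 1 at h1
    rw [classInner_eq_sum hf] at h1
    have h2 : ∀ η : IrrCharacter C, classInner (η : C → ℂ) f = (z η : ℂ) := fun η => by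
      rw [← classInner_conj_symm, hz, map_intCast]
    simp only [hz, h2, ← Int.cast_mul, ← Int.cast_sum, ← sq] at h1
    exact_mod_cast h1
  obtain ⟨β, -, hβ⟩ := Finset.exists_ne_zero_of_sum_ne_zero (hnorm.symm ▸ one_ne_zero :
    ∑ η : IrrCharacter C, z η ^ 2 ≠ 0)
  have hrest : z β ^ 2 + ∑ η ∈ Finset.univ.erase β, z η ^ 2 = 1 := by
    exact (Finset.add_sum_erase Finset.univ (fun η => z η ^ 2) (Finset.mem_univ β)).trans hnorm
  have hpos : 0 < z β ^ 2 := lt_of_le_of_ne (sq_nonneg _) (Ne.symm hβ)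
  have hnn : 0 ≤ ∑ η ∈ Finset.univ.erase β, z η ^ 2 := Finset.sum_nonneg fun _ _ => sq_nonneg _
  have hβ1 : z β = 1 ∨ z β = -1 := sq_eq_one_iff.1 (by omega)
  have h0 : ∀ η, η ≠ β → z η = 0 := fun η hη => by
    have h1 : ∑ η ∈ Finset.univ.erase β, z η ^ 2 = 0 := by omega
    exact pow_eq_zero_iff two_ne_zero |>.1 ((Finset.sum_eq_zero_iff_of_nonneg
      fun _ _ => sq_nonneg _).1 h1 η (Finset.mem_erase.2 ⟨hη, Finset.mem_univ η⟩))
  have hval : ∀ c : C, f c = (z β : ℂ) * (β : C → ℂ) c := fun c => by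
    have h1 := congrFun (classFun_expansion hf) c
    simp only [Finset.sum_apply, Pi.smul_apply, smul_eq_mul, hz] at h1
    rw [h1]
    exact Finset.sum_eq_single β (fun η _ hη => by rw [h0 η hη, Int.cast_zero, zero_mul])
      fun hne => absurd (Finset.mem_univ β) hne
  refine ⟨β, z β, hβ1, hval, fun he => ?_⟩
  have hμ := h.mu_isCharacter hc β
  have hμ1 : classInner (fun c : C => χh (c * ((1 : Subgroup.zpowers s) : Γ))) (β : C → ℂ) = 0 := by
    simp only [OneMemClass.coe_one, mul_one]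
    rw [← he]
    congr 1
    funext c
    exact hext ⟨c, h.le c.2⟩
  have h1 := congrFun ((IsChar.eq_zero_iff hμ).2 hμ1) ⟨s, Subgroup.mem_zpowers s⟩
  change classInner f (β : C → ℂ) = 0 at h1
  rw [hz] at h1
  rcases hβ1 with e | e <;> rw [e] at h1 <;> simp at h1

/-- The sign and character do not depend on the generator. -/
theorem value_pow [Fintype C] {χh : Γ → ℂ} (hχh : IsIrrCharacter Γ χh) (β : IrrCharacter C)
    (ε : ℤ) (hval : ∀ c : C, χh (c * s) = (ε : ℂ) * (β : C → ℂ) c) {j : ℕ}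
    (hj : j.Coprime (orderOf s)) (c : C) : χh (c * s ^ j) = (ε : ℂ) * (β : C → ℂ) c := by
  obtain ⟨k, hk, hkG, hks⟩ := h.exists_galois_exp hj
  obtain ⟨σ, hσ⟩ := exists_galois (Nat.card Γ) k Nat.card_pos.ne' hk
  have h1 : σ (χh (c * s)) = χh ((c : Γ) * s ^ j) := by
    rw [galois_apply_pow σ hσ (IsIrr.isCharacter hχh) (orderOf_dvd_natCard _),
      (h.commute c).mul_pow, hkG c (h.le c.2), hks]
  have h2 : σ ((β : C → ℂ) c) = (β : C → ℂ) c := by
    rw [galois_apply_pow σ hσ (IsIrr.isCharacter β.2)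
      ((orderOf_dvd_natCard c).trans (Subgroup.card_subgroup_dvd_card C))]
    exact congrArg (β : C → ℂ) (Subtype.ext ((SubmonoidClass.coe_pow c k).trans (hkG c (h.le c.2))))
  rw [← h1, hval, map_mul, map_intCast, h2]

end CycSetup

theorem sign_unique {C : Type u} [Group C] [Fintype C] {β β' : IrrCharacter C} {ε ε' : ℤ}
    (hε : ε = 1 ∨ ε = -1) (hε' : ε' = 1 ∨ ε' = -1)
    (h : ∀ c : C, (ε : ℂ) * (β : C → ℂ) c = (ε' : ℂ) * (β' : C → ℂ) c) : β = β' ∧ ε = ε' := by
  classical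
  have h1 := congrArg (fun φ => classInner φ (β : C → ℂ))
    (show (ε : ℂ) • (β : C → ℂ) = (ε' : ℂ) • (β' : C → ℂ) from funext h)
  simp only [classInner_smul_left, classInner_irrChar, if_true, mul_one] at h1
  by_cases he : β' = β
  · rw [if_pos he, mul_one] at h1
    exact ⟨he.symm, by exact_mod_cast h1⟩
  · rw [if_neg he, mul_zero] at h1
    rcases hε with e | e <;> rw [e] at h1 <;> simp at h1

end Cfsg.Agent.Char.Glauberman
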