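import Mathlib
import Cfsg.Agent.Char.Glauberman.Canonical

/-!
# The correspondence for a cyclic coprime group of operators
-/

namespace Cfsg.Agent.Char.Glauberman

open scoped ComplexConjugate

universe u

variable {Γ : Type u} [Group Γ] [Fintype Γ]

/-- `χ̂(c s) = ε β(c)` for all generators `s` of `S`. -/
def CycRel {C : Subgroup Γ} (S : Subgroup Γ) (χh : Γ → ℂ) (β : IrrCharacter C) (ε : ℤ) : Prop :=
  ∀ c : C, ∀ s : Γ, Subgroup.zpowers s = S → χh ((c : Γ) * s) = (ε : ℂ) * (β : C → ℂ) c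

variable {G S C : Subgroup Γ} [Fintype G] [Fintype C]
  (hnorm : ∀ s ∈ S, ∀ g ∈ G, s * g * s⁻¹ ∈ G) (hcop : (Nat.card G).Coprime (Nat.card S))
  (htop : G ⊔ S = ⊤) (hC : C = G ⊓ Subgroup.centralizer (S : Set Γ)) (hCG : C ≤ G)

include hnorm htop in
omit [Fintype Γ] [Fintype G] in
theorem normal_of_sup : G.Normal := by
  rw [← Subgroup.normalizer_eq_top_iff, eq_top_iff, ← htop]
  refine sup_le Subgroup.le_normalizer fun s hs => Subgroup.mem_normalizer_iff.2 fun g =>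
    ⟨fun hg => hnorm s hs g hg, fun hg => ?_⟩
  have := hnorm s⁻¹ (S.inv_mem hs) _ hg
  simpa [mul_assoc] using this

include hnorm hcop htop hC in
omit [Fintype G] [Fintype C] in
theorem cycSetup {s : Γ} (hs : Subgroup.zpowers s = S) : CycSetup G C s where
  normal := normal_of_sup hnorm htop
  gen := hs ▸ htop
  cop := by rwa [← Nat.card_zpowers, hs]
  mem g := by
    rw [hC, Subgroup.mem_inf, Subgroup.mem_centralizer_iff]
    refine and_congr_right fun _ => ⟨fun h => (h s (hs ▸ Subgroup.mem_zpowers s)).symm, fun h x hx => ?_⟩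
    obtain ⟨i, rfl⟩ := Subgroup.mem_zpowers_iff.1 (hs ▸ hx : x ∈ Subgroup.zpowers s)
    exact ((Commute.zpow_right (h : Commute g s) i).eq).symm

theorem exists_pow_of_generator {s t : Γ} (h : Subgroup.zpowers t = Subgroup.zpowers s) :
    ∃ j : ℕ, j.Coprime (orderOf s) ∧ t = s ^ j := by
  obtain ⟨j, hj⟩ := Submonoid.mem_powers_iff _ _ |>.1
    (mem_powers_iff_mem_zpowers.2 (h ▸ Subgroup.mem_zpowers t : t ∈ Subgroup.zpowers s))
  refine ⟨j, ?_, hj.symm⟩
  have h1 : orderOf t = orderOf s := by rw [← Nat.card_zpowers, h, Nat.card_zpowers]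
  rw [← hj, orderOf_pow] at h1
  have h2 : 0 < orderOf s := orderOf_pos s
  rcases Nat.div_eq_self.1 h1 with h3 | h3
  · omega
  · rwa [Nat.Coprime, Nat.gcd_comm]

include hnorm hcop htop hC hCG in
/-- Existence and uniqueness of the value, and the constituent property. -/
theorem cyc_exists (hcyc : IsCyclic S) (χ : IrrCharacter G) (χh : IrrCharacter Γ)
    (hext : ∀ g : G, (χh : Γ → ℂ) g = (χ : G → ℂ) g)
    (hdet : (detOrder (χh : Γ → ℂ)).Coprime (Nat.card S)) :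
    (∃! βε : IrrCharacter C × ℤ, (βε.2 = 1 ∨ βε.2 = -1) ∧ CycRel S (χh : Γ → ℂ) βε.1 βε.2) ∧
      ∀ (β : IrrCharacter C) (ε : ℤ), (ε = 1 ∨ ε = -1) → CycRel S (χh : Γ → ℂ) β ε →
        classInner (fun c : C => (χ : G → ℂ) ⟨c, hCG c.2⟩) (β : C → ℂ) ≠ 0 := by
  obtain ⟨⟨s, hsS⟩, hgen⟩ := hcyc.exists_generator
  have hs : Subgroup.zpowers s = S := le_antisymm (Subgroup.zpowers_le.2 hsS) fun x hx => by
    obtain ⟨i, hi⟩ := Subgroup.mem_zpowers_iff.1 (hgen ⟨x, hx⟩)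
    exact ⟨i, congrArg Subtype.val hi⟩
  have h := cycSetup hnorm hcop htop hC hs
  obtain ⟨β, ε, hε, hval, hne⟩ := h.exists_value χ χh.2 hext (by rwa [← Nat.card_zpowers, hs])
  have hrel : CycRel S (χh : Γ → ℂ) β ε := fun c t ht => by
    obtain ⟨j, hj, rfl⟩ := exists_pow_of_generator (s := s) (ht.trans hs.symm)
    exact h.value_pow χh.2 β ε hval hj c
  refine ⟨⟨(β, ε), ⟨hε, hrel⟩, ?_⟩, fun β' ε' hε' hrel' => ?_⟩
  · rintro ⟨β', ε'⟩ ⟨hε', hrel'⟩
    obtain ⟨e1, e2⟩ := sign_unique hε' hε fun c => ((hrel' c s hs).symm.trans (hval c))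
    exact Prod.ext e1 e2
  · obtain ⟨rfl, -⟩ := sign_unique hε' hε fun c => ((hrel' c s hs).symm.trans (hval c))
    exact hne

include hnorm hcop htop hC in
omit [Fintype G] in
/-- Injectivity. -/
theorem cyc_inj [Fintype G] (hcyc : IsCyclic S) (χ χ' : IrrCharacter G) (χh χh' : IrrCharacter Γ)
    (hext : ∀ g : G, (χh : Γ → ℂ) g = (χ : G → ℂ) g)
    (hext' : ∀ g : G, (χh' : Γ → ℂ) g = (χ' : G → ℂ) g)
    (β : IrrCharacter C) (ε ε' : ℤ) (hε : ε = 1 ∨ ε = -1) (hε' : ε' = 1 ∨ ε' = -1)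
    (hrel : CycRel S (χh : Γ → ℂ) β ε) (hrel' : CycRel S (χh' : Γ → ℂ) β ε') : χ = χ' := by
  obtain ⟨⟨s, hsS⟩, hgen⟩ := hcyc.exists_generator
  have hs : Subgroup.zpowers s = S := le_antisymm (Subgroup.zpowers_le.2 hsS) fun x hx => by
    obtain ⟨i, hi⟩ := Subgroup.mem_zpowers_iff.1 (hgen ⟨x, hx⟩)
    exact ⟨i, congrArg Subtype.val hi⟩
  have h := cycSetup hnorm hcop htop hC hs
  by_contra hne
  have h0 : classInner (fun g : G => (χh' : Γ → ℂ) g) (fun g : G => (χh : Γ → ℂ) g) = 0 := by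
    rw [funext hext, funext hext']
    exact classInner_irr_ne χ'.2 χ.2 fun e => hne (Subtype.ext e.symm)
  have h1 := (h.orth (C := C) χh.2 χh'.2 (by rw [funext hext]; exact χ.2)).1 h0
  rw [show (fun c : C => (χh : Γ → ℂ) (c * s)) = (ε : ℂ) • (β : C → ℂ) from
      funext fun c => hrel c s hs,
    show (fun c : C => (χh' : Γ → ℂ) (c * s)) = (ε' : ℂ) • (β : C → ℂ) from
      funext fun c => hrel' c s hs,
    classInner_smul_left, classInner_smul_right, classInner_irr_self β.2] at h1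
  rcases hε with rfl | rfl <;> rcases hε' with rfl | rfl <;> simp at h1

include hnorm hcop htop hC hCG in
/-- Surjectivity. -/
theorem cyc_surj (hcyc : IsCyclic S) (β : IrrCharacter C) :
    ∃ (χ : IrrCharacter G) (χh : IrrCharacter Γ) (ε : ℤ), InvFun (conjOp hnorm) (χ : G → ℂ) ∧
      (∀ g : G, (χh : Γ → ℂ) g = (χ : G → ℂ) g) ∧
      (detOrder (χh : Γ → ℂ)).Coprime (Nat.card S) ∧ (ε = 1 ∨ ε = -1) ∧
      CycRel S (χh : Γ → ℂ) β ε := by
  classical
  have hG := normal_of_sup hnorm htop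
  obtain ⟨⟨s, hsS⟩, hgen⟩ := hcyc.exists_generator
  have hs : Subgroup.zpowers s = S := le_antisymm (Subgroup.zpowers_le.2 hsS) fun x hx => by
    obtain ⟨i, hi⟩ := Subgroup.mem_zpowers_iff.1 (hgen ⟨x, hx⟩)
    exact ⟨i, congrArg Subtype.val hi⟩
  have h := cycSetup hnorm hcop htop hC hs
  have hext : ∀ χ : InvIrr (conjOp hnorm), ∃ χh : IrrCharacter Γ,
      (∀ g : G, (χh : Γ → ℂ) g = (χ.1 : G → ℂ) g) ∧
      (detOrder (χh : Γ → ℂ)).Coprime (Nat.card S) := by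
    intro χ
    obtain ⟨d, -, hd⟩ := IsIrr.degree χ.1.2
    have hinv : ∀ (y : Γ) (n : G),
        (χ.1 : G → ℂ) ⟨y * n * y⁻¹, hG.conj_mem (n : Γ) n.2 y⟩ = (χ.1 : G → ℂ) n := by
      intro y n
      obtain ⟨g, hg, t, ht, rfl⟩ :=
        Subgroup.mem_sup_of_normal_left.1 (htop ▸ Subgroup.mem_top y : y ∈ G ⊔ S)
      rw [← χ.2 ⟨t, ht⟩ n,
        ← isClassFunction_of_isIrr χ.1.2 (conjOp hnorm ⟨t, ht⟩ n) ⟨g, hg⟩]
      exact congrArg _ (Subtype.ext (by simp [conjOp_apply, mul_assoc]))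
    have hidx : G.index.Coprime (detOrder (χ.1 : G → ℂ) * d) := by
      rw [h.index_eq]
      exact Nat.Coprime.mul_right
        (h.cop.symm.coprime_dvd_right (detOrder_dvd_card (IsIrr.isCharacter χ.1.2)))
        (h.cop.symm.coprime_dvd_right (IsIrr.degree_dvd_card χ.1.2 hd))
    obtain ⟨χh, ⟨h1, h2, h3⟩, -⟩ := S0867.result G (χ.1 : G → ℂ) χ.1.2 hinv d hd hidx
    refine ⟨⟨χh, h1⟩, h2, ?_⟩
    show (detOrder χh).Coprime (Nat.card S)
    rw [h3]
    exact (hcop.coprime_dvd_left (detOrder_dvd_card (IsIrr.isCharacter χ.1.2)))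
  choose χh hχh hdet using hext
  choose βε hβε hu using fun χ : InvIrr (conjOp hnorm) =>
    (cyc_exists hnorm hcop htop hC hCG hcyc χ.1 (χh χ) (hχh χ) (hdet χ)).1
  have hinj : Function.Injective fun χ : InvIrr (conjOp hnorm) => (βε χ).1 := by
    intro χ χ' e
    have e' : (βε χ).1 = (βε χ').1 := e
    exact Subtype.ext (cyc_inj hnorm hcop htop hC hcyc χ.1 χ'.1 (χh χ) (χh χ') (hχh χ) (hχh χ')
      (βε χ).1 (βε χ).2 (βε χ').2 (hβε χ).1 (hβε χ').1 (hβε χ).2 (e' ▸ (hβε χ').2))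
  have hsol : Group.IsSolvable S := by
    have := hcyc
    exact Group.isSolvable_of_comm fun a b =>
      (IsCyclic.isMulCommutative (α := S)).is_comm.comm a b
  have hcard : Nat.card (InvIrr (conjOp hnorm)) = Nat.card (IrrCharacter C) := by
    rw [card_invIrr_eq_invClass _ (conjOp hnorm) rfl hsol hcop,
      card_invClass_eq_fixed _ (conjOp hnorm) rfl hsol hcop, card_irrCharacter]
    exact card_conjClasses_congr (fixedEquiv hnorm hC hCG).symm
  obtain ⟨χ, hχ⟩ := ((Nat.bijective_iff_injective_and_card _).2 ⟨hinj, hcard⟩).2 β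
  have hχ' : (βε χ).1 = β := hχ
  exact ⟨χ.1, χh χ, (βε χ).2, χ.2, hχh χ, hdet χ, (hβε χ).1, hχ' ▸ (hβε χ).2⟩

end Cfsg.Agent.Char.Glauberman
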