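import Mathlib

/-!
# Signed unit vectors on a cyclic group with Gauss congruences
-/

namespace Cfsg.Agent.Char.Glauberman

universe u v

/-- A function that is stable under powers and constant on elements of each prime order is constant. -/
theorem const_on_subgroup {S : Type u} [CommGroup S] [Finite S] {α : Type v} (g : S → α)
    (H : Subgroup S) (step : ∀ x ∈ H, ∀ p : ℕ, p.Prime → x ^ p ≠ 1 → g (x ^ p) = g x)
    (same : ∀ x ∈ H, ∀ y ∈ H, ∀ q : ℕ, q.Prime → orderOf x = q → orderOf y = q → g x = g y) :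
    ∀ x ∈ H, ∀ y ∈ H, x ≠ 1 → y ≠ 1 → g x = g y := by
  have red : ∀ n : ℕ, ∀ x ∈ H, orderOf x = n → x ≠ 1 →
      ∃ z ∈ H, (orderOf z).Prime ∧ g z = g x := by
    intro n
    induction n using Nat.strong_induction_on with
    | _ n ih =>
      intro x hx hn hx1
      by_cases hp : n.Prime
      · exact ⟨x, hx, hn ▸ hp, rfl⟩
      have hn1 : n ≠ 1 := fun h => hx1 (orderOf_eq_one_iff.1 (hn.trans h))
      have hpp := Nat.minFac_prime hn1
      have hdvd := Nat.minFac_dvd n
      have hne : x ^ n.minFac ≠ 1 := fun h => hp (by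
        have h1 := orderOf_dvd_of_pow_eq_one h
        rw [hn] at h1
        rwa [Nat.dvd_antisymm h1 hdvd])
      have hlt : orderOf (x ^ n.minFac) < n := by
        rw [orderOf_pow, hn, Nat.gcd_eq_right hdvd]
        exact Nat.div_lt_self (hn ▸ orderOf_pos x) hpp.one_lt
      obtain ⟨z, hz, hzp, hzg⟩ := ih _ hlt _ (H.pow_mem hx _) rfl hne
      exact ⟨z, hz, hzp, hzg.trans (step x hx _ hpp hne)⟩
  intro x hx y hy hx1 hy1
  obtain ⟨a, ha, hap, hag⟩ := red _ x hx rfl hx1
  obtain ⟨b, hb, hbp, hbg⟩ := red _ y hy rfl hy1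
  rw [← hag, ← hbg]
  by_cases he : orderOf a = orderOf b
  · exact same a ha b hb _ hap rfl he.symm
  have hco : (orderOf a).Coprime (orderOf b) := (Nat.coprime_primes hap hbp).2 he
  have key : ∀ a b : S, a ∈ H → b ∈ H → (orderOf a).Prime → (orderOf b).Prime →
      (orderOf a).Coprime (orderOf b) → g a = g (a * b) := by
    intro a b ha hb hap hbp hco
    have h1 : (a * b) ^ orderOf b = a ^ orderOf b := by rw [mul_pow, pow_orderOf_eq_one, mul_one]
    have h2 : orderOf (a ^ orderOf b) = orderOf a := hco.orderOf_pow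
    have h3 : (a * b) ^ orderOf b ≠ 1 := fun h => by
      rw [h1, ← orderOf_eq_one_iff, h2] at h
      exact hap.ne_one h
    rw [← step (a * b) (H.mul_mem ha hb) _ hbp h3, h1]
    exact same a ha _ (H.pow_mem ha _) _ hap rfl h2
  rw [key a b ha hb hap hbp hco, key b a hb ha hbp hap hco.symm, mul_comm]

/-- Two signed unit vectors congruent modulo `m ≥ 2` have the same support. -/
theorem index_eq_of_cong {ι : Type v} [DecidableEq ι] {b b' : ι} {e e' : ℤ} (he : e = 1 ∨ e = -1)
    {m : ℤ} (hm : 2 ≤ m)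
    (h : ∀ η, m ∣ (if η = b then e else 0) - (if η = b' then e' else 0)) : b = b' := by
  by_contra hne
  have h1 := h b
  rw [if_pos rfl, if_neg hne, sub_zero] at h1
  rcases he with rfl | rfl <;> have := Int.le_of_dvd one_pos (by simpa using h1 : m ∣ 1) <;> omega

theorem sign_eq_of_cong {e e' : ℤ} (he : e = 1 ∨ e = -1) (he' : e' = 1 ∨ e' = -1) {m : ℤ}
    (hm : 3 ≤ m) (h : m ∣ e - e') : e = e' := by
  by_contra hne
  have := Int.le_of_dvd (show (0 : ℤ) < |e - e'| from abs_pos.2 (sub_ne_zero.2 hne))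
    ((dvd_abs _ _).2 h)
  rcases he with rfl | rfl <;> rcases he' with rfl | rfl <;>
    first
    | exact hne rfl
    | (norm_num at this; omega)

/-- The shape of a family of signed unit vectors on a cyclic group. -/
theorem exists_signs {S : Type u} [CommGroup S] [Finite S] [IsCyclic S] [Nontrivial S] {ι : Type v}
    [DecidableEq ι] (v : S → ι → ℤ)
    (hp : ∀ p : ℕ, p.Prime → ∀ x η, (p : ℤ) ∣ v (x ^ p) η - v x η)
    (h4 : ∀ x η, (4 : ℤ) ∣ v (x ^ 4) η - v (x ^ 2) η)
    (hunit : ∀ x, x ≠ 1 → ∃ (b : ι) (e : ℤ), (e = 1 ∨ e = -1) ∧ ∀ η, v x η = if η = b then e else 0) :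
    ∃ (b : ι) (ε : ℤ) (μ : S →* ℤˣ), (ε = 1 ∨ ε = -1) ∧
      ∀ x, x ≠ 1 → ∀ η, v x η = if η = b then ε * (μ x : ℤ) else 0 := by
  classical
  obtain ⟨g, hg⟩ := IsCyclic.exists_generator (α := S)
  have hg1 : g ≠ 1 := by
    intro h
    obtain ⟨x, hx⟩ := exists_ne (1 : S)
    obtain ⟨i, hi⟩ := Subgroup.mem_zpowers_iff.1 (hg x)
    rw [h, one_zpow] at hi
    exact hx hi.symm
  obtain ⟨b₀, e₀, -, -⟩ := hunit g hg1
  have hall : ∀ x, ∃ (b : ι) (e : ℤ), (e = 1 ∨ e = -1) ∧
      (x ≠ 1 → ∀ η, v x η = if η = b then e else 0) := by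
    intro x
    by_cases hx : x = 1
    · exact ⟨b₀, 1, Or.inl rfl, fun h => absurd hx h⟩
    · obtain ⟨b, e, he, h⟩ := hunit x hx
      exact ⟨b, e, he, fun _ => h⟩
  choose B E hE hv using hall
  -- congruences between the vectors at two places
  have hidx : ∀ x y, x ≠ 1 → y ≠ 1 → ∀ m : ℤ, 2 ≤ m → (∀ η, m ∣ v x η - v y η) → B x = B y :=
    fun x y hx hy m hm h => index_eq_of_cong (hE x) (e' := E y) hm fun η => by
      have := h η; rwa [hv x hx, hv y hy] at this
  have hB : ∀ x, x ≠ 1 → B x = B g := fun x hx => by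
    refine const_on_subgroup B ⊤ (fun x _ p hpp hne => hidx _ _ hne (fun h => hne (by rw [h, one_pow]))
      p (by exact_mod_cast hpp.two_le) (hp p hpp x)) (fun x _ y _ q hq hxq hyq => ?_) x trivial g
      trivial hx hg1
    refine hidx x y (fun h => hq.ne_one (by rw [← hxq, h, orderOf_one]))
      (fun h => hq.ne_one (by rw [← hyq, h, orderOf_one])) q (by exact_mod_cast hq.two_le) fun η => ?_
    have h1 := hp q hq x η
    have h2 := hp q hq y η
    rw [← hxq, pow_orderOf_eq_one, hxq] at h1
    rw [← hyq, pow_orderOf_eq_one, hyq] at h2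
    simpa using Int.dvd_sub h2 h1
  have hvE : ∀ x, x ≠ 1 → v x (B g) = E x := fun x hx => by rw [hv x hx, if_pos (hB x hx).symm]
  have hsign : ∀ x y, x ≠ 1 → y ≠ 1 → ∀ m : ℤ, 3 ≤ m → m ∣ v x (B g) - v y (B g) → E x = E y :=
    fun x y hx hy m hm h => sign_eq_of_cong (hE x) (hE y) hm (by rwa [hvE x hx, hvE y hy] at h)
  let H : Subgroup S := (powMonoidHom 2 : S →* S).range
  have hH : ∀ x ∈ H, ∀ y ∈ H, x ≠ 1 → y ≠ 1 → E x = E y := by
    refine const_on_subgroup E H (fun x hx p hpp hne => ?_) fun x _ y _ q hq hxq hyq => ?_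
    · have hx1 : x ≠ 1 := fun h => hne (by rw [h, one_pow])
      rcases hpp.eq_two_or_odd' with rfl | hodd
      · obtain ⟨z, rfl⟩ := hx
        refine hsign _ _ hne hx1 4 (by norm_num) ?_
        have := h4 z (B g)
        rwa [show z ^ 4 = (powMonoidHom 2 z) ^ 2 by simp [← pow_mul]] at this
      · refine hsign _ _ hne hx1 p ?_ (hp p hpp x _)
        have := hpp.two_le
        obtain ⟨k, hk⟩ := hodd
        omega
    · have hx1 : x ≠ 1 := fun h => hq.ne_one (by rw [← hxq, h, orderOf_one])
      have hy1 : y ≠ 1 := fun h => hq.ne_one (by rw [← hyq, h, orderOf_one])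
      rcases hq.eq_two_or_odd' with rfl | hodd
      · have : Fintype S := Fintype.ofFinite S
        by_contra hne
        have hxy : x ≠ y := fun h => hne (h ▸ rfl)
        have hle := IsCyclic.card_pow_eq_one_le (α := S) (n := 2) two_pos
        have hsub : ({1, x, y} : Finset S) ⊆ Finset.univ.filter fun a => a ^ 2 = 1 := by
          intro a ha
          simp only [Finset.mem_insert, Finset.mem_singleton] at ha
          refine Finset.mem_filter.2 ⟨Finset.mem_univ _, ?_⟩
          rcases ha with rfl | rfl | rfl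
          · exact one_pow 2
          · rw [← hxq, pow_orderOf_eq_one]
          · rw [← hyq, pow_orderOf_eq_one]
        have := (Finset.card_le_card hsub).trans hle
        rw [Finset.card_eq_three.2 ⟨1, x, y, hx1.symm, hy1.symm, hxy, rfl⟩] at this
        omega
      · refine hsign x y hx1 hy1 q ?_ ?_
        · have := hq.two_le
          obtain ⟨k, hk⟩ := hodd
          omega
        · have h1 := hp q hq x (B g)
          have h2 := hp q hq y (B g)
          rw [← hxq, pow_orderOf_eq_one, hxq] at h1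
          rw [← hyq, pow_orderOf_eq_one, hyq] at h2
          simpa using Int.dvd_sub h2 h1
  -- outside the squares
  have hpow : ∀ x : S, ∃ j : ℕ, x = g ^ j := fun x => by
    obtain ⟨j, hj⟩ := Submonoid.mem_powers_iff _ _ |>.1 (mem_powers_iff_mem_zpowers.2 (hg x))
    exact ⟨j, hj.symm⟩
  have heven : ∀ j : ℕ, Even j → g ^ j ∈ H := fun j ⟨k, hk⟩ =>
    ⟨g ^ k, by rw [powMonoidHom_apply, ← pow_mul, hk, mul_two]⟩
  have hout : ∀ j : ℕ, g ^ j ∉ H → E (g ^ j) = E g := by
    intro j
    induction j using Nat.strong_induction_on with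
    | _ j ih =>
      intro hj
      by_cases h1 : j = 1
      · rw [h1, pow_one]
      have hpp := Nat.minFac_prime h1
      obtain ⟨k, hk⟩ := Nat.minFac_dvd j
      have hjodd : ¬ Even j := fun h => hj (heven j h)
      have hne : g ^ j ≠ 1 := fun h => hj (h ▸ H.one_mem)
      have hk' : g ^ k ∉ H := fun h => hj (by rw [hk, mul_comm, pow_mul]; exact H.pow_mem h _)
      have hlt : k < j := by
        have := hpp.two_le
        rcases Nat.eq_zero_or_pos k with rfl | hk0
        · exact absurd (hk.trans (mul_zero _) ▸ Even.zero : Even j) hjodd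
        · calc k < 2 * k := by omega
            _ ≤ j.minFac * k := Nat.mul_le_mul_right k hpp.two_le
            _ = j := hk.symm
      rw [← ih k hlt hk']
      refine hsign _ _ hne (fun h => hk' (h ▸ H.one_mem)) j.minFac ?_ ?_
      · rcases hpp.eq_two_or_odd' with h2 | hodd
        · exact absurd ((Nat.minFac_eq_two_iff j).1 h2 |> fun h => even_iff_two_dvd.2 h) hjodd
        · have := hpp.two_le
          obtain ⟨c, hc⟩ := hodd
          omega
      · have := hp _ hpp (g ^ k) (B g)
        rwa [← pow_mul, mul_comm k, ← hk] at this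
  let ε : ℤ := if h : ∃ z ∈ H, z ≠ 1 then E (Classical.choose h) else E g
  have hε : ε = 1 ∨ ε = -1 := by
    dsimp only [ε]; split_ifs <;> apply hE
  have hεH : ∀ x ∈ H, x ≠ 1 → E x = ε := fun x hx hx1 => by
    have h : ∃ z ∈ H, z ≠ 1 := ⟨x, hx, hx1⟩
    rw [show ε = E (Classical.choose h) from dif_pos h]
    exact hH x hx _ (Classical.choose_spec h).1 hx1 (Classical.choose_spec h).2
  let δ : ℤˣ := (Int.isUnit_iff.2 (hE g)).unit * (Int.isUnit_iff.2 hε).unit
  have hδ : ε * (δ : ℤ) = E g := by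
    show ε * (E g * ε) = E g
    rcases hε with h | h <;> rw [h] <;> ring
  let μ : S →* ℤˣ :=
    { toFun := fun x => if x ∈ H then 1 else δ
      map_one' := if_pos H.one_mem
      map_mul' := fun a c => by
        by_cases ha : a ∈ H
        · simp [ha, H.mul_mem_cancel_left ha]
        · by_cases hc : c ∈ H
          · simp [ha, hc, H.mul_mem_cancel_right hc]
          · obtain ⟨i, rfl⟩ := hpow a
            obtain ⟨k, rfl⟩ := hpow c
            have hik : g ^ i * g ^ k ∈ H := by
              rw [← pow_add]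
              refine heven _ (Odd.add_odd ?_ ?_)
              · exact Nat.not_even_iff_odd.1 fun h => ha (heven i h)
              · exact Nat.not_even_iff_odd.1 fun h => hc (heven k h)
            simp [ha, hc, hik, Int.units_mul_self] }
  refine ⟨B g, ε, μ, hε, fun x hx η => ?_⟩
  rw [hv x hx, hB x hx]
  congr 1
  show E x = ε * ((if x ∈ H then 1 else δ : ℤˣ) : ℤ)
  by_cases hxH : x ∈ H
  · simp [hxH, hεH x hxH hx]
  · obtain ⟨j, rfl⟩ := hpow x
    rw [if_neg hxH, hδ, hout j hxH]

end Cfsg.Agent.Char.Glauberman
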