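import Mathlib
import Cfsg.Agent.Char.Glauberman.Cyclic
import Cfsg.Agent.Char.Glauberman.CyclicSigns
import Cfsg.Agent.Char.CyclicRational

/-!
# Cyclic coprime operators whose non-identity elements have the same fixed points
-/

namespace Cfsg.Agent.Char.Glauberman

open scoped ComplexConjugate

universe u

variable {Γ : Type u} [Group Γ] [Fintype Γ] {G S C : Subgroup Γ} [Fintype G] [Fintype C]

theorem semiregular_restriction (hnorm : ∀ s ∈ S, ∀ g ∈ G, s * g * s⁻¹ ∈ G)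
    (hcop : (Nat.card G).Coprime (Nat.card S)) (htop : G ⊔ S = ⊤) (hcyc : IsCyclic S)
    (hC : C = G ⊓ Subgroup.centralizer (S : Set Γ)) (hCG : C ≤ G)
    (hfpf : ∀ x ∈ S, x ≠ 1 → G ⊓ Subgroup.centralizer ({x} : Set Γ) = C) (χ : IrrCharacter G)
    (χh : IrrCharacter Γ) (hext : ∀ g : G, (χh : Γ → ℂ) g = (χ : G → ℂ) g)
    (hdet : (detOrder (χh : Γ → ℂ)).Coprime (Nat.card S)) (β : IrrCharacter C) (ε₀ : ℤ)
    (hε₀ : ε₀ = 1 ∨ ε₀ = -1) (hβ : CycRel S (χh : Γ → ℂ) β ε₀) :
    ∃ ε : ℤ, (ε = 1 ∨ ε = -1) ∧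
      (∃ μ : S → ℂ, IsCharacter S μ ∧ μ 1 = 1 ∧ (∀ x : S, μ x * μ x = 1) ∧
        ∀ c : C, ∀ x : S, x ≠ 1 →
          (χh : Γ → ℂ) ((c : Γ) * x) = (ε : ℂ) * (β : C → ℂ) c * μ x) ∧
      (∃ ϑ : C → ℂ, IsCharacter C ϑ ∧ (fun c : C => (χ : G → ℂ) ⟨c, hCG c.2⟩) =
        fun c => (Nat.card S : ℂ) * ϑ c + (ε : ℂ) * (β : C → ℂ) c) ∧
      (Nat.card S : ℤ) ∣ (charDegree (χ : G → ℂ) : ℤ) - ε * (charDegree (β : C → ℂ) : ℤ) := by
  classical
  obtain ⟨⟨s, hsS⟩, hgen⟩ := hcyc.exists_generator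
  have hs : Subgroup.zpowers s = S := le_antisymm (Subgroup.zpowers_le.2 hsS) fun x hx => by
    obtain ⟨i, hi⟩ := Subgroup.mem_zpowers_iff.1 (hgen ⟨x, hx⟩)
    exact ⟨i, congrArg Subtype.val hi⟩
  subst hs
  have h := cycSetup hnorm hcop htop hC rfl
  have hconst : (β : C → ℂ) 1 ≠ 0 := IsIrr.one_ne_zero β.2
  have hne0 : classInner (fun c : C => (χ : G → ℂ) ⟨c, hCG c.2⟩) (β : C → ℂ) ≠ 0 :=
    (cyc_exists hnorm hcop htop hC hCG hcyc χ χh hext hdet).2 β ε₀ hε₀ hβ
  have hc := IsIrr.isCharacter χh.2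
  have hdet' : (detOrder (χh : Γ → ℂ)).Coprime (orderOf s) := by rwa [← Nat.card_zpowers]
  let w : Subgroup.zpowers s → IrrCharacter C → ℂ := fun x η =>
    classInner (fun c : C => (χh : Γ → ℂ) (c * (x : Γ))) (η : C → ℂ)
  have hcomm : ∀ (c : C) (x : Subgroup.zpowers s), Commute (c : Γ) x := fun c x => by
    obtain ⟨i, hi⟩ := Subgroup.mem_zpowers_iff.1 x.2
    rw [← hi]
    exact Commute.zpow_right (h.commute c) i
  have hint : ∀ (x : Subgroup.zpowers s) (η : IrrCharacter C), ∃ z : ℤ, w x η = z := by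
    intro x η
    have hμ := h.mu_isCharacter hc η
    obtain ⟨q, hq⟩ := IsChar.exists_rat hμ x fun j hj => by
      rw [Nat.card_zpowers] at hj
      obtain ⟨k, hk, hkG, hks⟩ := h.exists_galois_exp hj
      simp only [SubmonoidClass.coe_pow]
      congr 1
      funext c
      obtain ⟨i, hi⟩ := Subgroup.mem_zpowers_iff.1 x.2
      rw [show (x : Γ) ^ j = (x : Γ) ^ k by
          rw [← hi, ← zpow_natCast, ← zpow_natCast, ← zpow_mul, ← zpow_mul, mul_comm i, mul_comm i,
            zpow_mul, zpow_mul, zpow_natCast, zpow_natCast, hks],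
        ← h.apply_pow χ χh.2 hext hdet' hk hkG ((c : Γ) * x), (hcomm c x).mul_pow,
        hkG c (h.le c.2)]
    have hi := IsChar.isIntegral hμ x
    rw [hq] at hi
    obtain ⟨z, hz⟩ := exists_int_of_isIntegral_rat hi
    refine ⟨z, hq.trans ?_⟩
    rw [← hz]
    push_cast
    rfl
  choose z hz using hint
  have hμ : ∀ η, IsCharacter (Subgroup.zpowers s) (fun x => w x η) := fun η => h.mu_isCharacter hc η
  have hcls : ∀ x : Subgroup.zpowers s,
      IsClassFunction C (fun c : C => (χh : Γ → ℂ) (c * (x : Γ))) := by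
    intro x c k
    show (χh : Γ → ℂ) (((k * c * k⁻¹ : C) : Γ) * x) = (χh : Γ → ℂ) (c * x)
    rw [← isClassFunction_of_isIrr χh.2 ((c : Γ) * x) (k : Γ)]
    congr 1
    have := (hcomm k⁻¹ x).eq
    push_cast at this ⊢
    rw [mul_assoc (k : Γ) (c : Γ), mul_assoc, mul_assoc (k : Γ), mul_assoc, this]
    group
  have hexp : ∀ (x : Subgroup.zpowers s) (c : C), (χh : Γ → ℂ) ((c : Γ) * x) =
      ∑ η : IrrCharacter C, (z x η : ℂ) * (η : C → ℂ) c := by
    intro x c
    have h1 := congrFun (classFun_expansion (hcls x)) c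
    simp only [Finset.sum_apply, Pi.smul_apply, smul_eq_mul] at h1
    rw [h1]
    exact Finset.sum_congr rfl fun η _ => by rw [← hz x η]
  have hnormsq : ∀ x : Subgroup.zpowers s, x ≠ 1 → ∑ η : IrrCharacter C, z x η ^ 2 = 1 := by
    intro x hx
    have hx' : (x : Γ) ≠ 1 := fun e => hx (Subtype.ext e)
    have hG := h.normal
    have hmem : ∀ g : Γ, g ∈ C ↔ g ∈ G ∧ g * (x : Γ) = (x : Γ) * g := fun g => by
      rw [← hfpf x x.2 hx', Subgroup.mem_inf, Subgroup.mem_centralizer_singleton_iff]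
    have hcopx : (Nat.card G).Coprime (orderOf (x : Γ)) :=
      hcop.coprime_dvd_right (by rw [Nat.card_zpowers]; exact orderOf_dvd_of_mem_zpowers x.2)
    have h1 := sum_coset_of hG hcopx hmem (f := fun y => (χh : Γ → ℂ) y * conj ((χh : Γ → ℂ) y))
      fun a b => by simp only [isClassFunction_of_isIrr χh.2 a b]
    have h2 := avg_normSq_eq_one G χh.2 (by rw [funext hext]; exact χ.2) (x : Γ)
    have h3 : classInner (fun c : C => (χh : Γ → ℂ) (c * (x : Γ)))
        (fun c : C => (χh : Γ → ℂ) (c * (x : Γ))) = 1 := by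
      simp only [classInner]
      have hC0 : (Nat.card C : ℂ) ≠ 0 := card_ne_zero
      have hG0 : (Nat.card G : ℂ) ≠ 0 := card_ne_zero
      rw [inv_mul_eq_iff_eq_mul₀ hG0, mul_one] at h2
      rw [h2] at h1
      rw [inv_mul_eq_iff_eq_mul₀ hC0, mul_one]
      exact mul_left_cancel₀ hG0 (by rw [← h1]; ring)
    rw [classInner_eq_sum (hcls x)] at h3
    have h4 : ∀ η : IrrCharacter C, classInner (η : C → ℂ)
        (fun c : C => (χh : Γ → ℂ) (c * (x : Γ))) = (z x η : ℂ) := fun η => by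
      rw [← classInner_conj_symm, show classInner _ _ = (z x η : ℂ) from hz x η, map_intCast]
    rw [Finset.sum_congr rfl fun η _ => by
      rw [show classInner _ (η : C → ℂ) = (z x η : ℂ) from hz x η, h4 η]] at h3
    simp only [← Int.cast_mul, ← Int.cast_sum, ← sq] at h3
    exact_mod_cast h3
  have hunit : ∀ x : Subgroup.zpowers s, x ≠ 1 → ∃ (b : IrrCharacter C) (e : ℤ),
      (e = 1 ∨ e = -1) ∧ ∀ η, z x η = if η = b then e else 0 := by
    intro x hx
    have hn := hnormsq x hx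
    obtain ⟨b, -, hb⟩ := Finset.exists_ne_zero_of_sum_ne_zero (hn.symm ▸ one_ne_zero :
      ∑ η : IrrCharacter C, z x η ^ 2 ≠ 0)
    have hsplit := (Finset.add_sum_erase Finset.univ (fun η => z x η ^ 2)
      (Finset.mem_univ b)).trans hn
    have hnn : 0 ≤ ∑ η ∈ Finset.univ.erase b, z x η ^ 2 := Finset.sum_nonneg fun _ _ => sq_nonneg _
    have hpos : 0 < z x b ^ 2 := lt_of_le_of_ne (sq_nonneg _) (Ne.symm hb)
    have hrest : ∑ η ∈ Finset.univ.erase b, z x η ^ 2 = 0 := by omega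
    refine ⟨b, z x b, sq_eq_one_iff.1 (by omega), fun η => ?_⟩
    split_ifs with he
    · rw [he]
    · exact pow_eq_zero_iff two_ne_zero |>.1 ((Finset.sum_eq_zero_iff_of_nonneg
        fun _ _ => sq_nonneg _).1 hrest η (Finset.mem_erase.2 ⟨he, Finset.mem_univ η⟩))
  -- signs
  have hsigns : ∃ (ε : ℤ) (μ : Subgroup.zpowers s →* ℤˣ), (ε = 1 ∨ ε = -1) ∧
      ∀ x, x ≠ 1 → ∀ η, z x η = if η = β then ε * (μ x : ℤ) else 0 := by
    rcases subsingleton_or_nontrivial (Subgroup.zpowers s) with hsub | hnt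
    · exact ⟨ε₀, 1, hε₀, fun x hx => absurd (Subsingleton.elim x 1) hx⟩
    let _ : CommGroup (Subgroup.zpowers s) := IsCyclic.commGroup
    have hz' : ∀ η x, w x η = (z x η : ℂ) := fun η x => hz x η
    obtain ⟨b, ε, μ, hε, hb⟩ := exists_signs z
      (fun p hp x η => int_char_pow_prime (hμ η) hp (f := fun y => z y η) (hz' η) x)
      (fun x η => int_char_pow_four (hμ η) (f := fun y => z y η) (hz' η) x) hunit
    have hs1 : (⟨s, Subgroup.mem_zpowers s⟩ : Subgroup.zpowers s) ≠ 1 := by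
      intro e
      have e' : s = 1 := congrArg Subtype.val e
      obtain ⟨x, hx⟩ := exists_ne (1 : Subgroup.zpowers s)
      obtain ⟨i, hi⟩ := Subgroup.mem_zpowers_iff.1 x.2
      exact hx (Subtype.ext (by rw [← hi, e', one_zpow]; rfl))
    have hbβ : b = β := by
      have h1 : z ⟨s, Subgroup.mem_zpowers s⟩ β = ε₀ := by
        have h2 : w ⟨s, Subgroup.mem_zpowers s⟩ β = (ε₀ : ℂ) := by
          show classInner (fun c : C => (χh : Γ → ℂ) (c * s)) (β : C → ℂ) = _
          rw [show (fun c : C => (χh : Γ → ℂ) (c * s)) = (ε₀ : ℂ) • (β : C → ℂ) from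
            funext fun c => hβ c s rfl, classInner_smul_left, classInner_irr_self β.2, mul_one]
        exact_mod_cast (hz _ β).symm.trans h2
      by_contra hne
      rw [hb _ hs1, if_neg (Ne.symm hne)] at h1
      omega
    exact ⟨ε, μ, hε, hbβ ▸ hb⟩
  obtain ⟨ε, μ, hε, hval⟩ := hsigns
  refine ⟨ε, hε, ?_, ?_⟩
  · refine ⟨fun x => ((μ x : ℤ) : ℂ), ?_, by simp, fun x => ?_, fun c x hx => ?_⟩
    · exact isCharacter_hom ((Units.map (Int.castRingHom ℂ).toMonoidHom).comp μ)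
    · rw [← Int.cast_mul, Int.units_coe_mul_self, Int.cast_one]
    · rw [hexp x c, Finset.sum_eq_single β
        (fun η _ hη => by rw [hval x hx η, if_neg hη, Int.cast_zero, zero_mul])
        (fun hne => absurd (Finset.mem_univ β) hne), hval x hx β, if_pos rfl, Int.cast_mul]
      ring
  -- divisibility at the identity
  set n := Nat.card (Subgroup.zpowers s) with hn
  have hn0 : (n : ℂ) ≠ 0 := card_ne_zero
  have : Fintype (Subgroup.zpowers s) := Fintype.ofFinite _
  have hw1 : ∀ η : IrrCharacter C, ∃ k : ℕ, z 1 η = k ∧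
      w 1 η = classInner (fun c : C => (χ : G → ℂ) ⟨c, hCG c.2⟩) (η : C → ℂ) := by
    intro η
    have e : w 1 η = classInner (fun c : C => (χ : G → ℂ) ⟨c, hCG c.2⟩) (η : C → ℂ) := by
      show classInner _ _ = _
      congr 1
      funext c
      rw [OneMemClass.coe_one, mul_one]
      exact hext ⟨c, hCG c.2⟩
    obtain ⟨k, hk⟩ := classInner_isCharacter_eq_natCast
      (isCharacter_comp (Subgroup.inclusion hCG) (IsIrr.isCharacter χ.2)) (IsIrr.isCharacter η.2)
    refine ⟨k, ?_, e⟩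
    exact_mod_cast (hz 1 η).symm.trans (e.trans hk)
  have hq : ∀ η : IrrCharacter C, ∃ q : ℕ, z 1 η = n * q + if η = β then ε else 0 := by
    intro η
    have hμc : IsCharacter (Subgroup.zpowers s) fun x => ((μ x : ℤ) : ℂ) :=
      isCharacter_hom ((Units.map (Int.castRingHom ℂ).toMonoidHom).comp μ)
    obtain ⟨m, hm⟩ := classInner_isCharacter_eq_natCast (hμ η) hμc
    simp only [classInner, map_intCast] at hm
    rw [inv_mul_eq_iff_eq_mul₀ hn0, ← Finset.add_sum_erase _ _ (Finset.mem_univ 1)] at hm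
    have hrest : ∀ x ∈ Finset.univ.erase (1 : Subgroup.zpowers s),
        w x η * ((μ x : ℤ) : ℂ) = ((if η = β then ε else 0 : ℤ) : ℂ) := by
      intro x hx
      rw [hz x η, hval x (Finset.ne_of_mem_erase hx) η]
      split_ifs
      · rw [← Int.cast_mul, mul_assoc, Int.units_coe_mul_self, mul_one]
      · simp
    rw [Finset.sum_congr rfl hrest, Finset.sum_const, Finset.card_erase_of_mem (Finset.mem_univ _),
      Finset.card_univ, ← Nat.card_eq_fintype_card, ← hn, nsmul_eq_mul, hz 1 η, map_one,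
      Units.val_one, Int.cast_one, mul_one] at hm
    set e : ℤ := if η = β then ε else 0 with he
    have hm' : z 1 η + ((n - 1 : ℕ) : ℤ) * e = (n : ℤ) * m := by exact_mod_cast hm
    obtain ⟨k, hk, hk'⟩ := hw1 η
    have hnpos : 0 < n := Nat.card_pos
    rw [Nat.cast_sub (Nat.one_le_iff_ne_zero.2 hnpos.ne')] at hm'
    have hle : e ≤ z 1 η := by
      rw [he]
      split_ifs with h1
      · subst h1
        have : k ≠ 0 := fun e0 => hne0 (by rw [← hk', hz 1 η, hk, e0]; simp)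
        rcases hε with rfl | rfl <;> omega
      · omega
    have hq1 : z 1 η - e = (n : ℤ) * ((m : ℤ) - e) := by
      push_cast at hm'
      linarith
    have hqnn : (0 : ℤ) ≤ (m : ℤ) - e :=
      nonneg_of_mul_nonneg_right (by rw [← hq1]; omega) (by exact_mod_cast hnpos)
    exact ⟨((m : ℤ) - e).toNat, by rw [Int.toNat_of_nonneg hqnn]; linarith⟩
  choose q hq using hq
  let ϑ : C → ℂ := ∑ η : IrrCharacter C, (q η : ℂ) • (η : C → ℂ)
  have hϑ : IsCharacter C ϑ := by
    refine isCharacter_iff.2 ⟨?_, fun η => ⟨q η, ?_⟩⟩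
    · intro c k
      simp only [ϑ, Finset.sum_apply, Pi.smul_apply, smul_eq_mul]
      exact Finset.sum_congr rfl fun η _ => by rw [isClassFunction_of_isIrr η.2 c k]
    · simp only [ϑ, classInner_sum_left, classInner_smul_left, classInner_irrChar, mul_ite, mul_one,
        mul_zero, Finset.sum_ite_eq', Finset.mem_univ, if_true]
  have hres : ∀ c : C, (χ : G → ℂ) ⟨c, hCG c.2⟩ = (n : ℂ) * ϑ c + (ε : ℂ) * (β : C → ℂ) c := by
    intro c
    rw [← hext]
    have h1 := hexp 1 c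
    rw [OneMemClass.coe_one, mul_one] at h1
    rw [h1]
    simp only [hq, ϑ, Finset.sum_apply, Pi.smul_apply, smul_eq_mul, Finset.mul_sum]
    push_cast
    simp only [add_mul, Finset.sum_add_distrib, ite_mul, zero_mul, Finset.sum_ite_eq',
      Finset.mem_univ, if_true, mul_assoc]
  refine ⟨⟨ϑ, hϑ, funext hres⟩, ?_⟩
  obtain ⟨a, ha⟩ := IsChar.degree hϑ
  obtain ⟨d, -, hd⟩ := IsIrr.degree χ.2
  obtain ⟨d', -, hd'⟩ := IsIrr.degree β.2
  have h1 := hres 1
  have h2 : (χ : G → ℂ) ⟨((1 : C) : Γ), hCG (1 : C).2⟩ = (χ : G → ℂ) 1 := rfl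
  rw [h2, hd, ha, hd'] at h1
  have hdeg : ∀ {H : Type u} [Group H] {f : H → ℂ} {k : ℕ}, f 1 = k → charDegree f = k := by
    intro H _ f k e
    rw [charDegree, e, Complex.natCast_re, Nat.floor_natCast]
  rw [hdeg hd, hdeg hd']
  refine ⟨a, ?_⟩
  have h3 : (d : ℤ) = (n : ℤ) * a + ε * d' := by exact_mod_cast h1
  linarith

end Cfsg.Agent.Char.Glauberman
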